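import Mathlib.NumberTheory.NumberField.Completion.FinitePlace
import Mathlib.RingTheory.Henselian
import Mathlib.RingTheory.AdicCompletion.Basic

/-!
The completion of a discrete valuation ring: uniformizer, completeness, density.
-/

set_option autoImplicit false

universe u

open IsDedekindDomain IsDedekindDomain.HeightOneSpectrum WithZero Topology Filter

noncomputable section

namespace Groth.L24.AdicTorus

variable {A : Type u} [CommRing A] [IsDomain A] [IsDiscreteValuationRing A] (v : HeightOneSpectrum A)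

local notation "K" => FractionRing A
local notation "Kh" => v.adicCompletion (FractionRing A)
local notation "Oh" => v.adicCompletionIntegers (FractionRing A)

theorem valued_uniformizer {π : A} (hπ : Irreducible π) :
    Valued.v ((algebraMap A Oh π : Oh) : Kh) = exp (-1 : ℤ) := by
  have hv : v.asIdeal = IsLocalRing.maximalIdeal A :=
    IsLocalRing.eq_maximalIdeal (v.isPrime.isMaximal v.ne_bot)
  rw [algebraMap_adicCompletionIntegers_apply, valuedAdicCompletion_eq_valuation', valuation_of_algebraMap,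
    v.intValuation_singleton hπ.ne_zero (by rw [hv, hπ.maximalIdeal_eq])]

theorem pow_dvd_iff_valued {π : A} (hπ : Irreducible π) (n : ℕ) (x : Oh) :
    algebraMap A Oh π ^ n ∣ x ↔ Valued.v (x : Kh) ≤ exp (-(n : ℤ)) := by
  rw [← (adicCompletionIntegers.integers (FractionRing A) v).le_iff_dvd]
  show Valued.v (x : Kh) ≤ Valued.v (((algebraMap A Oh π ^ n : Oh)) : Kh) ↔ _
  rw [SubmonoidClass.coe_pow, map_pow, valued_uniformizer v hπ, ← exp_nsmul]
  simp

theorem restrict_uniformizer_pow_ne_zero {π : A} (hπ : Irreducible π) (n : ℕ) :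
    Valued.v.restrict ((algebraMap A Oh π ^ n : Oh) : Kh) ≠ 0 := by
  intro h
  have h1 := Valuation.restrict_eq_zero_iff _ |>.1 h
  rw [SubmonoidClass.coe_pow, map_pow, valued_uniformizer v hπ] at h1
  exact pow_ne_zero _ exp_ne_zero h1

theorem irreducible_uniformizer {π : A} (hπ : Irreducible π) : Irreducible (algebraMap A Oh π) := by
  apply IsDiscreteValuationRing.irreducible_of_span_eq_maximalIdeal
  · intro h
    have := valued_uniformizer v hπ
    rw [h] at this
    simp only [ZeroMemClass.coe_zero, map_zero] at this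
    exact exp_ne_zero this.symm
  · ext x
    rw [Ideal.mem_span_singleton, IsLocalRing.mem_maximalIdeal, mem_nonunits_iff,
      adicCompletionIntegers.isUnit_iff_valued_eq_one, ← pow_one (algebraMap A Oh π), pow_dvd_iff_valued v hπ]
    have hle : Valued.v (x : Kh) ≤ 1 := x.2
    constructor
    · intro h1
      rcases eq_or_ne (Valued.v (x : Kh)) 0 with h | h
      · rw [h] at hle ⊢; exact zero_le
      · obtain ⟨z, hz⟩ : ∃ z : ℤ, Valued.v (x : Kh) = exp z := ⟨_, (exp_log h).symm⟩
        rw [hz] at hle h1 ⊢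
        rw [← exp_zero, exp_le_exp] at hle
        rw [exp_le_exp]
        have : z ≠ 0 := fun e => h1 (by rw [e, exp_zero])
        push_cast
        omega
    · intro h h1
      rw [h1, ← exp_zero, exp_le_exp] at h
      omega

theorem isAdicComplete_integers : IsAdicComplete (IsLocalRing.maximalIdeal Oh) Oh := by
  obtain ⟨π, hπ⟩ := IsDiscreteValuationRing.exists_irreducible A
  have hm : ∀ n : ℕ, IsLocalRing.maximalIdeal Oh ^ n • (⊤ : Submodule Oh Oh) =
      Ideal.span {algebraMap A Oh π ^ n} := fun n => by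
    rw [(irreducible_uniformizer v hπ).maximalIdeal_eq, Ideal.span_singleton_pow, smul_eq_mul, Ideal.mul_top]
  have hmem : ∀ (n : ℕ) (x y : Oh), x ≡ y [SMOD (IsLocalRing.maximalIdeal Oh ^ n • ⊤ : Submodule Oh Oh)] ↔
      Valued.v ((x : Kh) - (y : Kh)) ≤ exp (-(n : ℤ)) := fun n x y => by
    rw [SModEq.sub_mem, hm, Ideal.mem_span_singleton, pow_dvd_iff_valued v hπ]
    simp
  refine { toIsHausdorff := ⟨fun x hx => ?_⟩, toIsPrecomplete := ⟨fun f hf => ?_⟩ }
  · by_contra h0
    have h1 : Valued.v (x : Kh) ≠ 0 := by simpa using h0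
    obtain ⟨z, hz⟩ : ∃ z : ℤ, Valued.v (x : Kh) = exp z := ⟨_, (exp_log h1).symm⟩
    have h2 := (hmem ((-z).toNat + 1) x 0).1 (hx _)
    simp only [ZeroMemClass.coe_zero, sub_zero, hz, exp_le_exp] at h2
    push_cast at h2
    omega
  · have key : ∀ (n a b : ℕ), n ≤ a → n ≤ b →
        Valued.v ((f b : Kh) - (f a : Kh)) ≤ exp (-(n : ℤ)) := fun n a b ha hb => by
      have h1 := (hmem n _ _).1 ((hf hb).symm.trans (hf ha))
      exact h1
    have hC : Cauchy (Filter.map (fun n => ((f n : Oh) : Kh)) atTop) := by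
      rw [Valued.cauchy_iff]
      refine ⟨inferInstance, fun γ => ?_⟩
      have hγ : MonoidWithZeroHom.ValueGroup₀.embedding (γ : MonoidWithZeroHom.ValueGroup₀ (.ofClass (Valued.v (R := Kh)))) ≠ 0 := by
        simp
      obtain ⟨z, hz⟩ := (⟨_, (exp_log hγ).symm⟩ : ∃ z : ℤ, _ = exp z)
      refine ⟨(fun n => ((f n : Oh) : Kh)) '' Set.Ici ((-z).toNat + 1), image_mem_map (Ici_mem_atTop _), ?_⟩
      rintro _ ⟨a, ha, rfl⟩ _ ⟨b, hb, rfl⟩
      rw [Valuation.restrict_lt_iff_lt_embedding, hz]
      refine lt_of_le_of_lt (key _ a b ha hb) ?_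
      rw [exp_lt_exp]
      push_cast
      omega
    obtain ⟨L, hL⟩ := CompleteSpace.complete hC
    have hclose : ∀ n : ℕ, Valued.v (L - (f n : Kh)) ≤ exp (-(n : ℤ)) := by
      intro n
      have hp := restrict_uniformizer_pow_ne_zero v hπ n
      have hs : {y : Kh | Valued.v.restrict (y - L) < (Units.mk0 _ hp).1} ∈ 𝓝 L :=
        Valued.mem_nhds.2 ⟨_, subset_rfl⟩
      obtain ⟨N, hN⟩ := mem_atTop_sets.1 (Filter.mem_map.1 (hL hs))
      have h1 := (Valuation.restrict_lt_iff _).1 (hN (max N n) (le_max_left _ _))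
      rw [Valuation.map_sub_swap, SubmonoidClass.coe_pow, map_pow, valued_uniformizer v hπ, ← exp_nsmul] at h1
      simp only [nsmul_eq_mul, mul_neg, mul_one] at h1
      calc Valued.v (L - (f n : Kh)) = Valued.v ((L - (f (max N n) : Kh)) + ((f (max N n) : Kh) - (f n : Kh))) := by
            rw [sub_add_sub_cancel]
        _ ≤ exp (-(n : ℤ)) := Valuation.map_add_le _ h1.le (key n n _ le_rfl (le_max_right _ _))
    have hLmem : L ∈ Oh := by
      rw [mem_adicCompletionIntegers]
      have h1 := hclose 0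
      simp only [Nat.cast_zero, neg_zero, exp_zero] at h1
      have : Valued.v ((L - (f 0 : Kh)) + (f 0 : Kh)) ≤ 1 := Valuation.map_add_le _ h1 (f 0).2
      simpa using this
    refine ⟨⟨L, hLmem⟩, fun n => (hmem n _ _).2 ?_⟩
    rw [Valuation.map_sub_swap]
    exact hclose n

theorem henselianLocalRing_integers : HenselianLocalRing Oh := by
  haveI := isAdicComplete_integers v
  haveI : HenselianRing Oh (IsLocalRing.maximalIdeal Oh) := inferInstance
  exact { is_henselian := fun f hf a₀ h1 h2 =>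
    HenselianRing.is_henselian f hf a₀ h1 (h2.map (Ideal.Quotient.mk _)) }

theorem exists_sub_dvd {π : A} (hπ : Irreducible π) (f : Oh) (n : ℕ) :
    ∃ a : A, algebraMap A Oh π ^ n ∣ f - algebraMap A Oh a := by
  have hp := restrict_uniformizer_pow_ne_zero v hπ n
  have hs : {y : Kh | Valued.v.restrict (y - (f : Kh)) < (Units.mk0 _ hp).1} ∈ 𝓝 (f : Kh) :=
    Valued.mem_nhds.2 ⟨_, subset_rfl⟩
  obtain ⟨y, hy, k, rfl⟩ := mem_closure_iff_nhds.1 (IsDedekindDomain.HeightOneSpectrum.denseRange_algebraMap (FractionRing A) v (f : Kh)) _ hs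
  have h1 : Valued.v (algebraMap K Kh k - (f : Kh)) < exp (-(n : ℤ)) := by
    have h := (Valuation.restrict_lt_iff _).1 hy
    rw [SubmonoidClass.coe_pow, map_pow, valued_uniformizer v hπ, ← exp_nsmul] at h
    simpa using h
  have hk : v.valuation K k ≤ 1 := by
    rw [← valuedAdicCompletion_eq_valuation' v k]
    have h2 : exp (-(n : ℤ)) ≤ (1 : ℤᵐ⁰) := by rw [← exp_zero, exp_le_exp]; omega
    have h3 : Valued.v (algebraMap K Kh k) ≤ 1 := by
      have := Valuation.map_add_le Valued.v (h1.le.trans h2) f.2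
      simpa using this
    exact h3
  obtain ⟨a, ha⟩ := exists_valuation_sub_lt_of_integer v hk (Units.mk0 (exp (-(n : ℤ))) (exp_ne_zero))
  refine ⟨a, (pow_dvd_iff_valued v hπ n _).2 ?_⟩
  rw [AddSubgroupClass.coe_sub, algebraMap_adicCompletionIntegers_apply]
  rw [Units.val_mk0, ← valuedAdicCompletion_eq_valuation' v (algebraMap A K a - k)] at ha
  calc Valued.v ((f : Kh) - algebraMap K Kh (algebraMap A K a))
      = Valued.v (((f : Kh) - algebraMap K Kh k) + (algebraMap K Kh k - algebraMap K Kh (algebraMap A K a))) := by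
        rw [sub_add_sub_cancel]
    _ ≤ exp (-(n : ℤ)) := Valuation.map_add_le _ (by rw [Valuation.map_sub_swap]; exact h1.le) (by
        rw [Valuation.map_sub_swap, ← map_sub]; exact ha.le)

end Groth.L24.AdicTorus
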