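import Groth.Agent.L24.AdicTorus.Unram
import Mathlib.Algebra.Polynomial.Laurent
import Mathlib.FieldTheory.Galois.Basic
import Mathlib.FieldTheory.IsAlgClosed.AlgebraicClosure
import Mathlib.RingTheory.Unramified.Field
import Mathlib.RingTheory.DedekindDomain.IntegralClosure
import Mathlib.RingTheory.DedekindDomain.Dvr

/-!
Field theory for the decomposition of adic points of tori.
-/

set_option autoImplicit false

universe u

open Polynomial LaurentPolynomial IntermediateField TensorProduct

noncomputable section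

namespace Groth.L24.AdicTorus

/-- The units of a Laurent polynomial ring over a domain are monomials. -/
theorem laurent_unit_eq {R : Type u} [CommRing R] [IsDomain R] (a : (LaurentPolynomial R)ˣ) :
    ∃ (c : R) (n : ℤ), (a : LaurentPolynomial R) = LaurentPolynomial.C c * LaurentPolynomial.T n := by
  obtain ⟨n, f, hf⟩ := LaurentPolynomial.exists_T_pow (a : LaurentPolynomial R)
  obtain ⟨m, g, hg⟩ := LaurentPolynomial.exists_T_pow ((a⁻¹ : (LaurentPolynomial R)ˣ) : LaurentPolynomial R)
  have h : f * g = X ^ (n + m) := Polynomial.toLaurent_injective (by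
    rw [map_mul, hf, hg, Polynomial.toLaurent_X_pow, Nat.cast_add, LaurentPolynomial.T_add]
    calc _ = ((a : LaurentPolynomial R) * ((a⁻¹ : (LaurentPolynomial R)ˣ) : LaurentPolynomial R)) *
          (LaurentPolynomial.T n * LaurentPolynomial.T m) := by ring
      _ = _ := by rw [a.mul_inv, _root_.one_mul])
  obtain ⟨k, -, hk⟩ := (dvd_prime_pow Polynomial.prime_X (n + m)).1 ⟨g, h.symm⟩
  obtain ⟨e, he⟩ := hk.symm
  obtain ⟨c, -, hc⟩ := Polynomial.isUnit_iff.1 e.isUnit
  refine ⟨c, (k : ℤ) - n, ?_⟩
  have h2 : (a : LaurentPolynomial R) * LaurentPolynomial.T n = LaurentPolynomial.C c * LaurentPolynomial.T k := by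
    rw [← hf, ← he, ← hc, map_mul, Polynomial.toLaurent_X_pow, Polynomial.toLaurent_C, mul_comm]
  rw [sub_eq_add_neg, LaurentPolynomial.T_add, ← mul_assoc, ← h2, mul_assoc, ← LaurentPolynomial.T_add,
    add_neg_cancel, LaurentPolynomial.T_zero, _root_.mul_one]

/-- A finite Galois subextension containing the image of a finite étale algebra. -/
theorem exists_galois_intermediate {A : Type u} [CommRing A] {K : Type u} [Field K] [Algebra A K]
    {Ω : Type u} [Field Ω] [IsAlgClosed Ω] [Algebra K Ω] [Algebra A Ω] [IsScalarTower A K Ω]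
    {R0 : Type u} [CommRing R0] [Algebra A R0] [Module.Finite A R0] [Algebra.Etale A R0]
    (ψ : R0 →ₐ[A] Ω) :
    ∃ E : IntermediateField K Ω, FiniteDimensional K E ∧ IsGalois K E ∧ ∀ r, ψ r ∈ E := by
  let f : TensorProduct A K R0 →ₐ[K] Ω :=
    Algebra.TensorProduct.lift (Algebra.ofId K Ω) ψ (fun _ _ => Commute.all _ _)
  haveI hfin : Module.Finite K f.range :=
    Module.Finite.of_surjective f.rangeRestrict.toLinearMap f.rangeRestrict_surjective
  haveI : Algebra.IsIntegral K f.range := Algebra.IsIntegral.of_finite K f.range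
  have hF : IsField f.range := isField_of_isIntegral_of_isField' (Field.toIsField K)
  let L0 : IntermediateField K Ω := f.range.toIntermediateField' hF
  let e : f.range →ₐ[K] L0 := (f.range.val).codRestrict L0.toSubalgebra fun x => x.2
  haveI : Module.Finite K L0 := Module.Finite.of_surjective e.toLinearMap (fun x => ⟨⟨x.1, x.2⟩, rfl⟩)
  haveI : Algebra.FormallyUnramified K L0 :=
    Algebra.FormallyUnramified.of_surjective (e.comp f.rangeRestrict) (fun x => by
      obtain ⟨y, hy⟩ := f.rangeRestrict_surjective ⟨x.1, x.2⟩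
      exact ⟨y, Subtype.ext (congrArg (Subtype.val : f.range → Ω) hy)⟩)
  haveI : Algebra.IsSeparable K L0 := Algebra.FormallyUnramified.isSeparable K L0
  let E := normalClosure K L0 Ω
  haveI hN : Normal K E :=
    (Algebra.IsAlgebraic.isNormalClosure_normalClosure (L := Ω)
      (fun x : L0 => IsAlgClosed.splits _)).normal
  haveI : ∀ g : L0 →ₐ[K] Ω, Algebra.IsSeparable K g.fieldRange := fun g =>
    AlgEquiv.Algebra.isSeparable (AlgEquiv.ofInjectiveField g)
  haveI hS : Algebra.IsSeparable K E :=
    IntermediateField.isSeparable_iSup (t := fun g : L0 →ₐ[K] Ω => g.fieldRange)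
  refine ⟨E, inferInstance, ⟨⟩, fun r => ?_⟩
  exact L0.val.fieldRange_le_normalClosure ⟨⟨ψ r, (⟨1 ⊗ₜ r, by simp [f]⟩ : ψ r ∈ f.range)⟩, rfl⟩

/-- An element separable over the base fixed by all automorphisms of an algebraic closure is in the base. -/
theorem mem_range_of_fixed {k Ω : Type u} [Field k] [Field Ω] [Algebra k Ω] [IsAlgClosure k Ω] (e : Ω)
    (hs : IsSeparable k e) (h : ∀ τ : Ω ≃ₐ[k] Ω, τ e = e) : e ∈ (algebraMap k Ω).range := by
  haveI : IsAlgClosed Ω := IsAlgClosure.isAlgClosed k
  haveI : Algebra.IsAlgebraic k Ω := IsAlgClosure.isAlgebraic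
  haveI : Normal k Ω := IsAlgClosure.normal k Ω
  rw [← minpoly.natDegree_eq_one_iff]
  have hi : IsIntegral k e := hs.isIntegral
  classical
  have h1 : (minpoly k e).rootSet Ω ⊆ {e} := fun x hx => by
    obtain ⟨τ, hτ⟩ := minpoly.exists_algEquiv_of_root' (Algebra.IsAlgebraic.isAlgebraic (R := k) e)
      (Polynomial.mem_rootSet.1 hx).2
    exact hτ.symm.trans (h τ)
  have h2 := Polynomial.card_rootSet_eq_natDegree (K := Ω) hs (IsAlgClosed.splits _)
  have h3 : Fintype.card ((minpoly k e).rootSet Ω) ≤ 1 := Fintype.card_le_one_iff.2 fun x y =>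
    Subtype.ext ((h1 x.2).trans (h1 y.2).symm)
  have h4 : 0 < (minpoly k e).natDegree := minpoly.natDegree_pos hi
  omega

section Approx

variable {A : Type u} [CommRing A] [IsDomain A] [IsDiscreteValuationRing A]
  {K : Type u} [Field K] [Algebra A K] [IsFractionRing A K]
  {Oh : Type u} [CommRing Oh] [IsDomain Oh] [IsDiscreteValuationRing Oh] [HenselianLocalRing Oh] [Algebra A Oh]
  {Kh : Type u} [Field Kh] [Algebra Oh Kh] [IsFractionRing Oh Kh]
  {Ω : Type u} [Field Ω] [Algebra Kh Ω] [Algebra Oh Ω] [IsScalarTower Oh Kh Ω]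
  [Algebra A Ω] [IsScalarTower A Oh Ω] [Algebra K Ω] [IsScalarTower A K Ω]

local notation "O" => integralClosure Oh Ω

include Kh in
/-- An element of `F` which is a uniformizer in the completion and a unit at the other embeddings. -/
theorem exists_uniformizer_at_one_place {π : A} (hπ : Irreducible π) (hπh : Irreducible (algebraMap A Oh π))
    (hdens : ∀ (f : Oh) (n : ℕ), ∃ a : A, algebraMap A Oh π ^ n ∣ f - algebraMap A Oh a)
    (F : IntermediateField K Ω) [FiniteDimensional K F] [Algebra.IsSeparable K F]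
    (hF : ∀ f : F, (f : Ω) ∈ (algebraMap Kh Ω).range) :
    ∃ f : F, (∃ u : Oˣ, (f : Ω) = algebraMap A Ω π * (u : O)) ∧
      ∀ φ : F →ₐ[K] Ω, φ ≠ F.val → ∃ u : Oˣ, φ f = (u : O) := by
  let C := integralClosure A F
  haveI : IsDedekindDomain C := integralClosure.isDedekindDomain A K F
  haveI : IsFractionRing C F := integralClosure.isFractionRing_of_finite_extension K F
  haveI : Algebra.IsIntegral A C := IsIntegralClosure.isIntegral_algebra A F
  haveI hO : IsLocalRing O := isLocalRing_integralClosure (Oh := Oh) (Ω := Ω)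
  let g : (F →ₐ[K] Ω) → C →+* O := fun φ =>
    ((φ.restrictScalars A).comp C.val).toRingHom.codRestrict (integralClosure Oh Ω).toSubring fun c =>
      ((IsIntegralClosure.isIntegral A F c).map (((φ.restrictScalars A).comp C.val))).tower_top
  have hg : ∀ φ c, ((g φ c : O) : Ω) = φ (c : F) := fun _ _ => rfl
  have hgA : ∀ φ a, g φ (algebraMap A C a) = algebraMap Oh O (algebraMap A Oh a) := fun φ a =>
    Subtype.ext ((φ.restrictScalars A).commutes a |>.trans (IsScalarTower.algebraMap_apply A Oh Ω a))
  let P : (F →ₐ[K] Ω) → Ideal C := fun φ => (IsLocalRing.maximalIdeal O).comap (g φ)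
  have hpu := not_isUnit_of_irreducible (Kh := Kh) (Ω := Ω) hπh
  have hπP : ∀ φ, algebraMap A C π ∈ P φ := fun φ => by
    show g φ _ ∈ IsLocalRing.maximalIdeal O
    rw [hgA]
    exact (IsLocalRing.mem_maximalIdeal _).2 hpu
  haveI hPp : ∀ φ, (P φ).IsPrime := fun φ => Ideal.comap_isPrime _ _
  have hPm : ∀ φ, (P φ).IsMaximal := fun φ => by
    apply Ideal.isMaximal_of_isIntegral_of_isMaximal_comap (R := A)
    have hle : IsLocalRing.maximalIdeal A ≤ (P φ).comap (algebraMap A C) := by
      rw [hπ.maximalIdeal_eq, Ideal.span_le, Set.singleton_subset_iff]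
      exact hπP φ
    rw [← (IsLocalRing.maximalIdeal.isMaximal A).eq_of_le (Ideal.comap_ne_top _ (hPp φ).ne_top) hle]
    exact IsLocalRing.maximalIdeal.isMaximal A
  have hne : ∀ φ, φ ≠ F.val → P F.val ≠ P φ := fun φ hφ heq => by
    set p := P F.val with hp
    have hp0 : p ≠ ⊥ := fun e => by
      have h1 : algebraMap A C π = 0 := Ideal.mem_bot.1 (e ▸ hπP F.val)
      have h2 := congrArg (g F.val) h1
      rw [hgA, map_zero] at h2
      exact hπh.ne_zero (injective_algebraMap_Ω (Kh := Kh) (Ω := Ω)
        ((congrArg Subtype.val h2).trans (map_zero _).symm))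
    haveI := IsLocalization.AtPrime.isDiscreteValuationRing_of_dedekind_domain C hp0 (Localization.AtPrime p)
    have hunit : ∀ ψ, P ψ = p → ∀ s : C, s ∉ p → IsUnit (g ψ s) := fun ψ e s hs => by
      by_contra h
      exact hs (e ▸ (IsLocalRing.mem_maximalIdeal (g ψ s)).2 h)
    have key : ∀ z : F, IsIntegral Oh (z : Ω) → IsIntegral Oh (φ z) := fun z hz => by
      obtain ⟨a, b, hb, rfl⟩ := IsFractionRing.div_surjective (A := C) z
      have hb0 : algebraMap C F b ≠ 0 := fun e => nonZeroDivisors.ne_zero hb (Subtype.ext e)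
      have good : ∀ t s : C, s ∉ p → a * s = b * t → IsIntegral Oh (φ (algebraMap C F a / algebraMap C F b)) := by
        intro t s hs h
        obtain ⟨u, hu⟩ := hunit φ heq.symm s hs
        have hs0 : algebraMap C F s ≠ 0 := fun e => hs ((show s = 0 from Subtype.ext e) ▸ p.zero_mem)
        have h1 : algebraMap C F a / algebraMap C F b = algebraMap C F t / algebraMap C F s := by
          rw [div_eq_div_iff hb0 hs0, ← map_mul, ← map_mul, h, mul_comm]
        rw [h1, map_div₀]
        have h2 : φ (algebraMap C F t) / φ (algebraMap C F s) = ((g φ t * ↑u⁻¹ : O) : Ω) := by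
          rw [div_eq_iff (by rwa [_root_.map_ne_zero]), MulMemClass.coe_mul, mul_assoc,
            show φ (algebraMap C F s) = ((u : O) : Ω) by rw [hu]; rfl, ← MulMemClass.coe_mul, u.inv_mul]
          simp [hg]
        rw [h2]
        exact (g φ t * ↑u⁻¹ : O).2
      obtain ⟨c, hc⟩ := ValuationRing.cond (algebraMap C (Localization.AtPrime p) b) (algebraMap C (Localization.AtPrime p) a)
      obtain ⟨⟨t, s⟩, hts⟩ := IsLocalization.surj p.primeCompl c
      have hinj := IsLocalization.injective (Localization.AtPrime p) p.primeCompl_le_nonZeroDivisors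
      rcases hc with hc | hc
      · refine good t s s.2 (hinj ?_)
        rw [map_mul, map_mul, ← hts, ← hc, mul_assoc]
      · have e : b * (s : C) = a * t := hinj (by rw [map_mul, map_mul, ← hts, ← hc, mul_assoc])
        by_cases ht : t ∈ p
        · exfalso
          let Z : O := ⟨_, hz⟩
          have h1 : g F.val s = Z * g F.val t := by
            apply Subtype.ext
            show ((s : F) : Ω) = (((algebraMap C F a / algebraMap C F b : F)) : Ω) * ((t : F) : Ω)
            rw [← MulMemClass.coe_mul]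
            congr 1
            show algebraMap C F s = algebraMap C F a / algebraMap C F b * algebraMap C F t
            rw [div_mul_eq_mul_div, eq_div_iff hb0]
            have := congrArg (algebraMap C F) e
            rw [map_mul, map_mul] at this
            rw [mul_comm]
            exact this
          exact s.2 (show g F.val s ∈ IsLocalRing.maximalIdeal O by rw [h1]; exact Ideal.mul_mem_left _ _ ht)
        · exact good s t ht e.symm
    apply hφ
    refine AlgHom.ext fun z => ?_
    obtain ⟨a, b, hb, rfl⟩ := IsFractionRing.div_surjective (A := C) z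
    rw [map_div₀, map_div₀]
    suffices hc : ∀ c : C, φ (algebraMap C F c) = F.val (algebraMap C F c) by rw [hc, hc]
    intro c
    let D : O := g φ c - g F.val c
    suffices hD : D = 0 from sub_eq_zero.1 ((congrArg Subtype.val hD))
    apply eq_zero_of_forall_pow_dvd (Kh := Kh) hπh
    intro n
    obtain ⟨y, hy⟩ := hF c
    obtain ⟨w, hw⟩ := mem_range_of_isIntegral (Oh := Oh) (Ω := Ω) (y := y) (by
      rw [hy]; exact (g F.val c).2)
    obtain ⟨a', d, hd⟩ := hdens w n
    let q : F := algebraMap A F π ^ n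
    have hq0 : q ≠ 0 := pow_ne_zero _ fun e => hπh.ne_zero (injective_algebraMap_Ω (Kh := Kh) (Ω := Ω) (by
      rw [map_zero, ← IsScalarTower.algebraMap_apply A Oh Ω, ← (F.val.restrictScalars A).commutes π, e, map_zero]))
    let z : F := ((c : F) - algebraMap A F a') / q
    have hz : (z : Ω) = algebraMap Oh Ω d := by
      show (((c : F) - algebraMap A F a') / q : F).1 = _
      rw [IntermediateField.coe_div, div_eq_iff (by simpa using hq0), AddSubgroupClass.coe_sub]
      show ((c : F) : Ω) - algebraMap A Ω a' = algebraMap Oh Ω d * ((q : F) : Ω)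
      rw [← hy, ← hw, ← IsScalarTower.algebraMap_apply Oh Kh Ω, IsScalarTower.algebraMap_apply A Oh Ω, ← map_sub, hd,
        map_mul, map_pow, mul_comm]
      congr 1
      show _ = algebraMap A Ω π ^ n
      rw [IsScalarTower.algebraMap_apply A Oh Ω]
    let Z1 : O := ⟨φ z, key z (by rw [hz]; exact isIntegral_algebraMap)⟩
    let Z0 : O := ⟨(z : Ω), by rw [hz]; exact isIntegral_algebraMap⟩
    refine ⟨Z1 - Z0, Subtype.ext ?_⟩
    show φ (algebraMap C F c) - (c : Ω) = algebraMap Oh Ω (algebraMap A Oh π) ^ n * (φ z - (z : Ω))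
    have e1 : (c : F) - algebraMap A F a' = z * q := (div_mul_cancel₀ _ hq0).symm
    have e2 := congrArg φ e1
    have e3 := congrArg F.val e1
    rw [map_sub, map_mul, map_pow] at e2 e3
    have cA : ∀ (χ : F →ₐ[K] Ω) (x : A), χ (algebraMap A F x) = algebraMap Oh Ω (algebraMap A Oh x) :=
      fun χ x => ((χ.restrictScalars A).commutes x).trans (IsScalarTower.algebraMap_apply A Oh Ω x)
    rw [cA, cA] at e2 e3
    change ((c : F) : Ω) - _ = (z : Ω) * _ at e3
    change φ (c : F) - ((c : F) : Ω) = _
    linear_combination e2 - e3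
  classical
  let q : Ideal C := (Ideal.span {algebraMap Oh O (algebraMap A Oh π) ^ 2}).comap (g F.val)
  let I : Option {φ : F →ₐ[K] Ω // φ ≠ F.val} → Ideal C := fun o => o.elim q (fun φ => P φ.1)
  have hsub : ¬ ((P F.val : Set C) ⊆ ⋃ i ∈ ((Finset.univ : Finset (Option {φ : F →ₐ[K] Ω // φ ≠ F.val})) : Set _), (I i : Set C)) := by
    rw [Ideal.subset_union_prime none none]
    · rintro ⟨i, -, hi⟩
      cases i with
      | none =>
        have h1 := hi (hπP F.val)
        simp only [I, Option.elim, q, Ideal.mem_comap, Ideal.mem_span_singleton, hgA] at h1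
        obtain ⟨d, hd⟩ := h1
        have hp0 : algebraMap Oh O (algebraMap A Oh π) ≠ 0 := fun e => hπh.ne_zero
          (injective_algebraMap_Ω (Kh := Kh) (Ω := Ω) ((congrArg Subtype.val e).trans (map_zero _).symm))
        rw [sq, mul_assoc] at hd
        exact hpu (isUnit_iff_exists_inv.2 ⟨d, mul_left_cancel₀ hp0 (hd.symm.trans (mul_one _).symm)⟩)
      | some φ => exact hne φ.1 φ.2 ((hPm _).eq_of_le (hPp _).ne_top hi)
    · rintro (_ | φ) - h h'
      · exact absurd rfl h
      · exact hPp φ.1
  obtain ⟨c, hcP, hc⟩ := Set.not_subset.1 hsub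
  refine ⟨(c : F), ?_, fun φ hφ => ?_⟩
  · obtain ⟨y, hy⟩ := hF c
    obtain ⟨w, hw⟩ := mem_range_of_isIntegral (Oh := Oh) (Ω := Ω) (y := y) (by rw [hy]; exact (g F.val c).2)
    have hgw : g F.val c = algebraMap Oh O w := Subtype.ext (by
      show ((c : F) : Ω) = algebraMap Oh Ω w
      rw [← hy, ← hw, ← IsScalarTower.algebraMap_apply Oh Kh Ω])
    have hw1 : w ∈ IsLocalRing.maximalIdeal Oh := by
      intro hu
      exact (IsLocalRing.mem_maximalIdeal _).1 hcP (hgw ▸ hu.map (algebraMap Oh O))
    rw [hπh.maximalIdeal_eq, Ideal.mem_span_singleton] at hw1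
    obtain ⟨w', rfl⟩ := hw1
    have hw' : IsUnit w' := by
      by_contra hn
      have hn' : w' ∈ IsLocalRing.maximalIdeal Oh := hn
      rw [hπh.maximalIdeal_eq, Ideal.mem_span_singleton] at hn'
      obtain ⟨w'', rfl⟩ := hn'
      refine hc (Set.mem_iUnion₂.2 ⟨none, Finset.mem_coe.2 (Finset.mem_univ _), ?_⟩)
      show g F.val c ∈ Ideal.span _
      rw [hgw, Ideal.mem_span_singleton]
      exact ⟨algebraMap Oh O w'', by rw [map_mul, map_mul, sq, mul_assoc]⟩
    obtain ⟨u, rfl⟩ := hw'
    refine ⟨Units.map (algebraMap Oh O).toMonoidHom u, ?_⟩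
    have := (congrArg (Subtype.val (p := fun x => x ∈ integralClosure Oh Ω)) hgw)
    rw [IsScalarTower.algebraMap_apply A Oh Ω]
    change ((c : F) : Ω) = algebraMap Oh Ω (algebraMap A Oh π) * algebraMap Oh Ω (u : Oh)
    rw [← map_mul]
    exact this
  · have h1 : c ∉ P φ := fun h => hc (Set.mem_iUnion₂.2 ⟨some ⟨φ, hφ⟩, Finset.mem_coe.2 (Finset.mem_univ _), h⟩)
    obtain ⟨u, hu⟩ : IsUnit (g φ c) := by
      by_contra h
      exact h1 ((IsLocalRing.mem_maximalIdeal _).2 h)
    exact ⟨u, by rw [hu]; rfl⟩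

end Approx

end Groth.L24.AdicTorus
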