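import Groth.Agent.L24.AdicTorus.Split
import Groth.Agent.L24.AdicTorus.Field

/-!
Points of an isotrivial torus over a completed discrete valuation ring.
-/

set_option autoImplicit false
set_option backward.isDefEq.respectTransparency false
set_option backward.isDefEq.respectTransparency.types false

universe u

open CategoryTheory Limits MonoidalCategory CartesianMonoidalCategory MonObj AlgebraicGeometry

noncomputable section

namespace Groth.L24.AdicTorus

section General

variable {A : Type u} [CommRing A] {T : Over (Spec (CommRingCat.of A))} [GrpObj T] {r : ℕ}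

/-- Functoriality of points as a homomorphism. -/
def resHom {R R' : Type u} [CommRing R] [Algebra A R] [CommRing R'] [Algebra A R'] (φ : R →ₐ[A] R') :
    (pt A R ⟶ T) →* (pt A R' ⟶ T) :=
  MonoidHom.mk' (fun x => res φ ≫ x) (fun x y => MonObj.comp_mul _ x y)

theorem res_comp_apply {R R' R'' : Type u} [CommRing R] [Algebra A R] [CommRing R'] [Algebra A R']
    [CommRing R''] [Algebra A R''] (φ : R →ₐ[A] R') (ψ : R' →ₐ[A] R'') (x : pt A R ⟶ T) :
    res ψ ≫ res φ ≫ x = res (ψ.comp φ) ≫ x := by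
  rw [res_comp, Category.assoc]

variable (S : Splitting T r)

theorem Splitting.value {R R' : Type u} [CommRing R] [Algebra A R] [CommRing R'] [Algebra A R']
    {j : S.R0 →ₐ[A] R} {j' : S.R0 →ₐ[A] R'} {φ : R →ₐ[A] R'} (h : φ.comp j = j') (x : pt A R ⟶ T) (i : Fin r) :
    ((S.Θ R' j' (res φ ≫ x) i : R'ˣ) : R') = φ ((S.Θ R j x i : Rˣ) : R) := by
  subst h; exact S.natural R R' j φ x i

theorem Splitting.mul_comm {R : Type u} [CommRing R] [Algebra A R] (j : S.R0 →ₐ[A] R) (x y : pt A R ⟶ T) :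
    x * y = y * x :=
  (S.Θ R j).injective (by rw [map_mul, map_mul, _root_.mul_comm])

theorem Splitting.ext {R : Type u} [CommRing R] [Algebra A R] (j : S.R0 →ₐ[A] R) {x y : pt A R ⟶ T}
    (h : ∀ i, ((S.Θ R j x i : Rˣ) : R) = ((S.Θ R j y i : Rˣ) : R)) : x = y :=
  (S.Θ R j).injective (funext fun i => Units.ext (h i))

variable (T) [IsAffine T.left] [Algebra A Γ(T.left, ⊤)]
  (hT : Spec.map (CommRingCat.ofHom (algebraMap A Γ(T.left, ⊤))) = T.left.isoSpec.inv ≫ T.hom)

omit [GrpObj T] in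
include hT in
theorem exists_descend {R R' : Type u} [CommRing R] [Algebra A R] [CommRing R'] [Algebra A R']
    (φ : R →ₐ[A] R') (hφ : Function.Injective φ) (x : pt A R' ⟶ T)
    (h : ∀ a, toAlg T hT x a ∈ φ.range) : ∃ x0 : pt A R ⟶ T, res φ ≫ x0 = x := by
  let g : Γ(T.left, ⊤) →ₐ[A] R :=
    (AlgEquiv.ofInjective φ hφ).symm.toAlgHom.comp ((toAlg T hT x).codRestrict φ.range h)
  refine ⟨ofAlg T hT g, ?_⟩
  rw [← ofAlg_toAlg T hT x, ← ofAlg_toAlg T hT (res φ ≫ _), toAlg_res, toAlg_ofAlg]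
  congr 1
  refine AlgHom.ext fun a => ?_
  exact congrArg Subtype.val ((AlgEquiv.ofInjective φ hφ).apply_symm_apply ((toAlg T hT x).codRestrict φ.range h a))

end General

open LaurentPolynomial in
/-- Every point of an isotrivial torus over the completion is an integral point times a rational point. -/
theorem exists_integer_mul_rational {A : Type u} [CommRing A] [IsDomain A] [IsDiscreteValuationRing A]
    (K : Type u) [Field K] [Algebra A K] [IsFractionRing A K]
    (Oh : Type u) [CommRing Oh] [IsDomain Oh] [IsDiscreteValuationRing Oh] [HenselianLocalRing Oh] [Algebra A Oh]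
    (Kh : Type u) [Field Kh] [Algebra Oh Kh] [IsFractionRing Oh Kh]
    [Algebra A Kh] [IsScalarTower A Oh Kh] [Algebra K Kh] [IsScalarTower A K Kh]
    {π : A} (hπ : Irreducible π) (hπh : Irreducible (algebraMap A Oh π))
    (hdens : ∀ (f : Oh) (n : ℕ), ∃ a : A, algebraMap A Oh π ^ n ∣ f - algebraMap A Oh a)
    {T : Over (Spec (CommRingCat.of A))} [GrpObj T] [IsAffine T.left] {r : ℕ} (S : Splitting T r)
    (x : pt A Kh ⟶ T) :
    ∃ (a : pt A Oh ⟶ T) (b : pt A K ⟶ T),
      x = (res (IsScalarTower.toAlgHom A Oh Kh) ≫ a) * (res (IsScalarTower.toAlgHom A K Kh) ≫ b) := by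
  obtain ⟨φT, hφT⟩ := Spec.map_surjective (T.left.isoSpec.inv ≫ T.hom)
  letI : Algebra A Γ(T.left, ⊤) := φT.hom.toAlgebra
  have hT : Spec.map (CommRingCat.ofHom (algebraMap A Γ(T.left, ⊤))) = T.left.isoSpec.inv ≫ T.hom := hφT
  haveI := S.finite; haveI := S.etale; haveI := S.nontriv
  let Ω := AlgebraicClosure Kh
  haveI : IsScalarTower A K Ω := IsScalarTower.of_algebraMap_eq fun a => by
    rw [IsScalarTower.algebraMap_apply A Kh Ω, IsScalarTower.algebraMap_apply A K Kh,
      ← IsScalarTower.algebraMap_apply K Kh Ω]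
  haveI : IsScalarTower A Oh Ω := IsScalarTower.of_algebraMap_eq fun a => by
    rw [IsScalarTower.algebraMap_apply A Kh Ω, IsScalarTower.algebraMap_apply A Oh Kh,
      ← IsScalarTower.algebraMap_apply Oh Kh Ω]
  let O := integralClosure Oh Ω
  -- a geometric point of the splitting algebra
  haveI : FaithfulSMul A K := (faithfulSMul_iff_algebraMap_injective A K).2 (IsFractionRing.injective A K)
  obtain ⟨ψ⟩ : Nonempty (S.R0 →ₐ[A] Ω) := by
    haveI : Module.Flat A S.R0 := inferInstance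
    haveI : Module.FaithfullyFlat A S.R0 := by
      haveI := Module.free_of_flat_of_isLocalRing (R := A) (P := S.R0)
      infer_instance
    haveI : Nontrivial (TensorProduct A Ω S.R0) := inferInstance
    obtain ⟨m, hm⟩ := Ideal.exists_maximal (TensorProduct A Ω S.R0)
    haveI := hm
    letI := Ideal.Quotient.field m
    haveI : Module.Finite Ω (TensorProduct A Ω S.R0 ⧸ m) :=
      Module.Finite.of_surjective (Ideal.Quotient.mkₐ Ω m).toLinearMap Ideal.Quotient.mk_surjective
    haveI : Algebra.IsAlgebraic Ω (TensorProduct A Ω S.R0 ⧸ m) := Algebra.IsAlgebraic.of_finite Ω _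
    exact ⟨(((IsAlgClosed.lift : TensorProduct A Ω S.R0 ⧸ m →ₐ[Ω] Ω).comp
      (Ideal.Quotient.mkₐ Ω m)).restrictScalars A).comp Algebra.TensorProduct.includeRight⟩
  obtain ⟨E, hEf, hEg, hψE⟩ := exists_galois_intermediate (K := K) ψ
  let jE : S.R0 →ₐ[A] E := ψ.codRestrict (E.toSubalgebra.restrictScalars A) hψE
  let ιE : E →ₐ[A] Ω := E.val.restrictScalars A
  have hjE : ιE.comp jE = ψ := AlgHom.ext fun _ => rfl
  let jO : S.R0 →ₐ[A] O := ψ.codRestrict (O.restrictScalars A)
    (fun s => ((IsIntegral.of_finite A s).map ψ).tower_top)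
  let ιO : O →ₐ[A] Ω := O.val.restrictScalars A
  have hjO : ιO.comp jO = ψ := AlgHom.ext fun _ => rfl
  let hι : Kh →ₐ[A] Ω := IsScalarTower.toAlgHom A Kh Ω
  set p : Ω := algebraMap Oh Ω (algebraMap A Oh π) with hp
  have hpA : p = algebraMap A Ω π := (IsScalarTower.algebraMap_apply A Oh Ω π).symm
  -- the valuations of the values of `x`
  have hval : ∀ i, ∃ (z : ℤ) (u : Oˣ), ((S.Θ Ω ψ (res hι ≫ x) i : Ωˣ) : Ω) = p ^ z * ((u : O) : Ω) := by
    intro i
    let R := Algebra.adjoin Kh (Set.range ψ)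
    let jR : S.R0 →ₐ[A] R := ψ.codRestrict (R.restrictScalars A) fun s => Algebra.subset_adjoin ⟨s, rfl⟩
    let ιR : R →ₐ[A] Ω := R.val.restrictScalars A
    let hK : Kh →ₐ[A] R := IsScalarTower.toAlgHom A Kh R
    have e : res hι ≫ x = res ιR ≫ res hK ≫ x := by
      rw [res_comp_apply]; congr 2
    have h1 : ((S.Θ Ω ψ (res hι ≫ x) i : Ωˣ) : Ω) = ιR ((S.Θ R jR (res hK ≫ x) i : Rˣ) : R) := by
      rw [e]; exact S.value (show ιR.comp jR = ψ from AlgHom.ext fun _ => rfl) _ i
    refine exists_zpow_mul_unit (Kh := Kh) hπh ψ _ ?_ (Units.ne_zero _)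
    rw [h1]
    exact ((S.Θ R jR (res hK ≫ x) i : Rˣ) : R).2
  choose v u hu using hval
  -- the one-parameter family
  let P := LaurentPolynomial E
  let jP : S.R0 →ₐ[A] P := (IsScalarTower.toAlgHom A E P).comp jE
  let tU : ℤ → Pˣ := fun n => (LaurentPolynomial.isUnit_T n).unit
  let lam : pt A P ⟶ T := (S.Θ P jP).symm fun i => tU (v i)
  let ev : Eˣ → (P →ₐ[A] E) := fun s =>
    (AddMonoidAlgebra.lift E E ℤ ((Units.coeHom E).comp (zpowersHom Eˣ s))).restrictScalars A
  have evC : ∀ s c, ev s (LaurentPolynomial.C c) = c := fun s c => by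
    show AddMonoidAlgebra.lift E E ℤ _ (AddMonoidAlgebra.single 0 c) = c
    rw [AddMonoidAlgebra.lift_single]; simp
  have evT : ∀ s n, ev s (LaurentPolynomial.T n) = ((s ^ n : Eˣ) : E) := fun s n => by
    show AddMonoidAlgebra.lift E E ℤ _ (AddMonoidAlgebra.single n 1) = _
    rw [AddMonoidAlgebra.lift_single]; simp [zpowersHom_apply]
  have evj : ∀ s, (ev s).comp jP = jE := fun s => AlgHom.ext fun a => evC s (jE a)
  have hlam : ∀ s i, ((S.Θ E jE (res (ev s) ≫ lam) i : Eˣ) : E) = ((s ^ v i : Eˣ) : E) := fun s i => by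
    rw [S.value (evj s) lam i]
    simp only [lam, MulEquiv.apply_symm_apply]
    exact evT s (v i)
  let til : (E →ₐ[A] E) → (P →ₐ[A] P) := fun σ => AddMonoidAlgebra.mapAlgHom ℤ σ
  have evtil : ∀ (σ : E →ₐ[A] E) (s : Eˣ),
      (ev (Units.map (σ : E →* E) s)).comp (til σ) = σ.comp (ev s) := fun σ s => by
    refine AlgHom.ext fun f => ?_
    induction f using LaurentPolynomial.induction_on' with
    | add f g hf hg => simp only [map_add, hf, hg]
    | C_mul_T n c =>
      have e1 : til σ (LaurentPolynomial.C c * LaurentPolynomial.T n) = LaurentPolynomial.C (σ c) * LaurentPolynomial.T n := by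
        rw [← LaurentPolynomial.single_eq_C_mul_T, ← LaurentPolynomial.single_eq_C_mul_T]
        exact AddMonoidAlgebra.mapAlgHom_single σ n c
      rw [AlgHom.comp_apply, AlgHom.comp_apply, e1, map_mul, map_mul, map_mul, evC, evC, evT, evT, ← map_zpow]
      rfl
  have hone : res (ev 1) ≫ lam = 1 := S.ext jE fun i => by
    rw [hlam, _root_.one_zpow, map_one]; rfl
  have hsig : ∀ σ : E →ₐ[A] E, ∃ n : Fin r → ℤ, ∀ (s : Eˣ) i,
      ((S.Θ E jE (res σ ≫ res (ev s) ≫ lam) i : Eˣ) : E) = (((Units.map (σ : E →* E) s) ^ n i : Eˣ) : E) ∧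
      ((S.Θ P jP (res (til σ) ≫ lam) i : Pˣ) : P) = LaurentPolynomial.T (n i) := by
    intro σ
    choose c n hcn using fun i => laurent_unit_eq (S.Θ P jP (res (til σ) ≫ lam) i)
    have key : ∀ (s : Eˣ) i, ((S.Θ E jE (res σ ≫ res (ev s) ≫ lam) i : Eˣ) : E) =
        c i * (((Units.map (σ : E →* E) s) ^ n i : Eˣ) : E) := fun s i => by
      rw [res_comp_apply, ← evtil, ← res_comp_apply, S.value (evj _), hcn, map_mul, evC, evT]
    have hc : ∀ i, c i = 1 := fun i => by
      have h := key 1 i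
      rw [hone, show res σ ≫ (1 : pt A E ⟶ T) = 1 from map_one (resHom σ), map_one, map_one,
        _root_.one_zpow] at h
      simpa using h.symm
    refine ⟨n, fun s i => ⟨?_, ?_⟩⟩
    · rw [key, hc, _root_.one_mul]
    · rw [hcn, hc, map_one, _root_.one_mul]
  -- `x` up to an integral point
  have hpA0 : algebraMap A E π ≠ 0 := fun e => hπ.ne_zero
    ((faithfulSMul_iff_algebraMap_injective A K).1 inferInstance ((algebraMap K E).injective (by
      rw [← IsScalarTower.algebraMap_apply A K E, e, map_zero, map_zero])))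
  let πE : Eˣ := Units.mk0 _ hpA0
  have hπE : ιE (πE : E) = p := by rw [hpA]; exact ιE.commutes π
  have hιzpow : ∀ (s : Eˣ) (n : ℤ), ιE ((s ^ n : Eˣ) : E) = ιE (s : E) ^ n := fun s n => by
    rw [Units.val_zpow_eq_zpow_val]; exact map_zpow₀ ιE _ _
  have hOzpow : ∀ (a : Oˣ) (n : ℤ), (((a ^ n : Oˣ) : O) : Ω) = ((a : O) : Ω) ^ n := fun a n =>
    (congrArg Units.val (map_zpow (Units.map (ιO : O →* Ω)) a n)).trans (Units.val_zpow_eq_zpow_val _ _)
  let w : pt A O ⟶ T := (S.Θ O jO).symm u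
  have hx : res hι ≫ x = (res ιE ≫ res (ev πE) ≫ lam) * (res ιO ≫ w) := S.ext ψ fun i => by
    rw [hu, map_mul, Pi.mul_apply, Units.val_mul, S.value hjE, hlam, S.value hjO, hιzpow, hπE]
    simp only [w, MulEquiv.apply_symm_apply]
    rfl
  -- invariance of the family under the decomposition group
  have hfix : ∀ (τ : Ω ≃ₐ[Kh] Ω) (a : Γ(T.left, ⊤)) (n : ℤ),
      τ ((toAlg T hT lam a).coeff n : E) = (((toAlg T hT lam a).coeff n : E) : Ω) := by
    intro τ a n
    let τK : Ω ≃ₐ[K] Ω := τ.restrictScalars K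
    haveI : Normal K E := IsGalois.to_normal
    let σ : E →ₐ[A] E := (τK.restrictNormal E).toAlgHom.restrictScalars A
    have hσ : ∀ e : E, ιE (σ e) = τ (ιE e) := fun e => AlgEquiv.restrictNormal_commutes τK E e
    let τA : Ω →ₐ[A] Ω := τ.toAlgHom.restrictScalars A
    let τO : O →ₐ[A] O := ((τA.comp ιO)).codRestrict (O.restrictScalars A)
      (fun z => (z.2).map (τ.toAlgHom.restrictScalars Oh))
    obtain ⟨m, hm⟩ := hsig σ
    have hσπ : Units.map (σ : E →* E) πE = πE := Units.ext (σ.commutes π)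
    have h1 : res τA ≫ res hι ≫ x = res hι ≫ x := by
      rw [res_comp_apply]; congr 2
      exact AlgHom.ext fun k => τ.commutes k
    rw [hx, show res τA ≫ (_ * _) = _ from map_mul (resHom τA) _ _] at h1
    change (res τA ≫ res ιE ≫ _) * (res τA ≫ res ιO ≫ _) = _ at h1
    rw [res_comp_apply ιE τA, show τA.comp ιE = ιE.comp σ from AlgHom.ext fun e => (hσ e).symm,
      ← res_comp_apply σ ιE, res_comp_apply ιO τA, show τA.comp ιO = ιO.comp τO from AlgHom.ext fun e => rfl,
      ← res_comp_apply τO ιO] at h1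
    have hmv : ∀ i, m i = v i := fun i => by
      have h2 := congrArg (fun y => ((S.Θ Ω ψ y i : Ωˣ) : Ω)) h1
      simp only [map_mul, Pi.mul_apply, Units.val_mul, S.value hjE, S.value hjO, (hm πE i).1, hσπ, hlam,
        hιzpow, hπE] at h2
      exact zpow_mul_unit_inj (Kh := Kh) hπh _ _ h2
    have hl : res (til σ) ≫ lam = lam := S.ext jP fun i => by
      rw [(hm 1 i).2, hmv]
      simp only [lam, MulEquiv.apply_symm_apply]
      rfl
    have h3 := AlgHom.congr_fun (congrArg (toAlg T hT) hl) a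
    rw [toAlg_res, AlgHom.comp_apply] at h3
    have h4 := congrArg (fun q : P => q.coeff n) h3
    simp only [til, AddMonoidAlgebra.coeff_mapAlgHom] at h4
    exact (hσ _).symm.trans (congrArg ιE h4)
  let F : IntermediateField K Ω := E ⊓ (IsScalarTower.toAlgHom K Kh Ω).fieldRange
  have hFE : F ≤ E := inf_le_left
  have hcoef : ∀ a n, (((toAlg T hT lam a).coeff n : E) : Ω) ∈ F := fun a n => by
    refine ⟨((toAlg T hT lam a).coeff n : E).2, ?_⟩
    haveI : Algebra.IsSeparable K E := IsGalois.to_isSeparable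
    have hs : IsSeparable K (((toAlg T hT lam a).coeff n : E) : Ω) := by
      have := Algebra.IsSeparable.isSeparable K ((toAlg T hT lam a).coeff n : E)
      rwa [IsSeparable, ← minpoly.algHom_eq E.val E.val.injective] at this
    obtain ⟨k, hk⟩ := mem_range_of_fixed _ (IsSeparable.tower_top (L := Kh) hs) (fun τ => hfix τ a n)
    exact ⟨k, hk⟩
  letI : Algebra F E := (IntermediateField.inclusion hFE).toAlgebra
  haveI : IsScalarTower K F E := IsScalarTower.of_algebraMap_eq fun _ => rfl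
  haveI : FiniteDimensional K F :=
    FiniteDimensional.of_injective (IntermediateField.inclusion hFE).toLinearMap (IntermediateField.inclusion hFE).injective
  haveI : Algebra.IsSeparable K F := Algebra.IsSeparable.of_algHom _ _ (IntermediateField.inclusion hFE)
  obtain ⟨f, ⟨u₁, hu₁⟩, hf⟩ := exists_uniformizer_at_one_place (Oh := Oh) (Kh := Kh) hπ hπh hdens F
    (fun z => z.2.2)
  have hp0 : p ≠ 0 := by rw [← hπE]; exact (_root_.map_ne_zero ιE).2 πE.ne_zero
  have hu0 : ∀ w : Oˣ, ((w : O) : Ω) ≠ 0 := fun w h => w.ne_zero (Subtype.ext h)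
  have hf0 : f ≠ 0 := fun e => by
    rw [e, ← hpA] at hu₁
    exact mul_ne_zero hp0 (hu0 u₁) (hu₁.symm.trans rfl)
  let incF : F →ₐ[A] E := (IntermediateField.inclusion hFE).restrictScalars A
  let fE : Eˣ := Units.map (incF : F →* E) (Units.mk0 f hf0)
  obtain ⟨z0, hz0⟩ := exists_descend T hT incF (IntermediateField.inclusion hFE).injective
    (res (ev fE) ≫ lam) fun a => by
      rw [toAlg_res, AlgHom.comp_apply]
      have key : ∀ q : P, (∀ n, ((q.coeff n : E) : Ω) ∈ F) → ev fE q ∈ incF.range := fun q hq => by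
        show AddMonoidAlgebra.lift E E ℤ _ q ∈ _
        rw [AddMonoidAlgebra.lift_apply]
        refine Subalgebra.sum_mem _ fun n _ => ?_
        dsimp only
        rw [smul_eq_mul]
        refine mul_mem ⟨⟨_, hq n⟩, rfl⟩ ⟨((Units.mk0 f hf0 ^ n : Fˣ) : F), ?_⟩
        show ((Units.map (incF : F →* E) (Units.mk0 f hf0 ^ n) : Eˣ) : E) = _
        rw [map_zpow]
        simp [zpowersHom_apply, fE]
      exact key _ (hcoef a)
  -- the product over the embeddings
  letI : CommGroup (pt A E ⟶ T) :=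
    { (inferInstance : Group (pt A E ⟶ T)) with mul_comm := S.mul_comm jE }
  let y : pt A E ⟶ T := ∏ φ : F →ₐ[K] E, resHom (φ.restrictScalars A) z0
  haveI : IsGalois K E := hEg
  obtain ⟨b, hb⟩ := exists_descend T hT (IsScalarTower.toAlgHom A K E) (algebraMap K E).injective y fun a => by
    show toAlg T hT y a ∈ Set.range (algebraMap K E)
    rw [IsGalois.mem_range_algebraMap_iff_fixed]
    intro g
    have hg : res (g.toAlgHom.restrictScalars A) ≫ y = y := by
      show resHom (g.toAlgHom.restrictScalars A) y = y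
      rw [map_prod]
      refine Fintype.prod_equiv (Equiv.ofBijective (fun φ => g.toAlgHom.comp φ)
        ⟨fun φ ψ h => AlgHom.ext fun z => g.injective (AlgHom.congr_fun h z),
         fun φ => ⟨g.symm.toAlgHom.comp φ, AlgHom.ext fun z => g.apply_symm_apply _⟩⟩) _ _ fun φ => ?_
      exact res_comp_apply (φ.restrictScalars A) (g.toAlgHom.restrictScalars A) z0
    have h3 := AlgHom.congr_fun (congrArg (toAlg T hT) hg) a
    rw [toAlg_res, AlgHom.comp_apply] at h3
    exact h3
  have hyval : ∀ i, ∃ w' : Oˣ, ((S.Θ Ω ψ (res ιE ≫ y) i : Ωˣ) : Ω) = p ^ v i * ((w' : O) : Ω) := by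
    intro i
    classical
    have hterm : ∀ φ : F →ₐ[K] E, ∃ w' : Oˣ, ((S.Θ E jE (resHom (φ.restrictScalars A) z0) i : Eˣ) : E).1 =
        (if φ = IntermediateField.inclusion hFE then p ^ v i else 1) * ((w' : O) : Ω) := by
      intro φ
      by_cases hφ : φ = IntermediateField.inclusion hFE
      · subst hφ
        refine ⟨u₁ ^ v i, ?_⟩
        rw [if_pos rfl]
        show ιE ((S.Θ E jE (res incF ≫ z0) i : Eˣ) : E) = _
        rw [hz0, hlam, hιzpow]
        show (f : Ω) ^ v i = _
        rw [hu₁, ← hpA, mul_zpow]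
        congr 1
        exact (hOzpow u₁ (v i)).symm
      · let σ₀ : E →ₐ[K] E := φ.liftNormal E
        let σ : E →ₐ[A] E := σ₀.restrictScalars A
        have e : φ.restrictScalars A = σ.comp incF := AlgHom.ext fun z => (φ.liftNormal_commutes E z).symm
        obtain ⟨m, hm⟩ := hsig σ
        have hne : E.val.comp φ ≠ F.val := fun e' => hφ (AlgHom.ext fun z =>
          Subtype.ext (AlgHom.congr_fun e' z))
        obtain ⟨u₂, hu₂⟩ := hf _ hne
        refine ⟨u₂ ^ m i, ?_⟩
        rw [if_neg hφ, _root_.one_mul]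
        show ιE ((S.Θ E jE (res (φ.restrictScalars A) ≫ z0) i : Eˣ) : E) = _
        rw [e, ← res_comp_apply, hz0, (hm fE i).1, hιzpow]
        show (ιE (σ (incF f))) ^ m i = _
        rw [show σ (incF f) = φ f from (AlgHom.congr_fun e f).symm, show ιE (φ f) = ((u₂ : O) : Ω) from hu₂]
        exact (hOzpow u₂ (m i)).symm
    choose w' hw' using hterm
    refine ⟨∏ φ, w' φ, ?_⟩
    rw [S.value hjE, map_prod, Finset.prod_apply, Units.coe_prod, map_prod]
    show ∏ φ, ((S.Θ E jE (resHom _ z0) i : Eˣ) : E).1 = _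
    simp_rw [hw']
    rw [Finset.prod_mul_distrib, Finset.prod_ite_eq' Finset.univ (IntermediateField.inclusion hFE) (fun _ => p ^ v i),
      if_pos (Finset.mem_univ _), Units.coe_prod]
    congr 1
    exact (map_prod ιO _ _).symm
  choose w' hw' using hyval
  let d : pt A Kh ⟶ T := x * (res (IsScalarTower.toAlgHom A K Kh) ≫ b)⁻¹
  have hy : res hι ≫ res (IsScalarTower.toAlgHom A K Kh) ≫ b = res ιE ≫ y := by
    rw [← hb, res_comp_apply, res_comp_apply]
    congr 2
  have hd : res hι ≫ d = res ιO ≫ (S.Θ O jO).symm (fun i => u i * (w' i)⁻¹) := S.ext ψ fun i => by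
    show ((S.Θ Ω ψ (resHom hι (x * (res (IsScalarTower.toAlgHom A K Kh) ≫ b)⁻¹)) i : Ωˣ) : Ω) = _
    rw [map_mul, map_inv, map_mul, map_inv, Pi.mul_apply, Pi.inv_apply, Units.val_mul, Units.val_inv_eq_inv_val]
    change ((S.Θ Ω ψ (res hι ≫ x) i : Ωˣ) : Ω) * ((S.Θ Ω ψ (res hι ≫ res _ ≫ b) i : Ωˣ) : Ω)⁻¹ = _
    rw [hy, hu, hw', S.value hjO]
    simp only [MulEquiv.apply_symm_apply]
    have e1 : ιO ((u i * (w' i)⁻¹ : Oˣ) : O) * ((w' i : O) : Ω) = ((u i : O) : Ω) := by
      show ιO _ * ιO _ = ιO _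
      rw [← map_mul, Units.val_mul, _root_.mul_assoc, Units.inv_mul, _root_.mul_one]
    rw [← e1]
    have h1 := zpow_ne_zero (v i) hp0
    have h2 := hu0 (w' i)
    rw [← div_eq_mul_inv, div_eq_iff (mul_ne_zero h1 h2)]
    ring
  obtain ⟨a, ha⟩ := exists_descend T hT (IsScalarTower.toAlgHom A Oh Kh) (IsFractionRing.injective Oh Kh) d fun c => by
    apply mem_range_of_isIntegral (Oh := Oh) (Ω := Ω)
    have h3 := AlgHom.congr_fun (congrArg (toAlg T hT) hd) c
    rw [toAlg_res, toAlg_res, AlgHom.comp_apply, AlgHom.comp_apply] at h3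
    exact h3 ▸ (toAlg T hT ((S.Θ O jO).symm (fun i => u i * (w' i)⁻¹)) c).2
  refine ⟨a, b, ?_⟩
  rw [ha]
  exact (inv_mul_cancel_right x _).symm

end Groth.L24.AdicTorus
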