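import Groth.Agent.L25.TorusTorsion
import Groth.Prelude.Def_GmPts
import Groth.Prelude.Def_TwC
import Mathlib.AlgebraicGeometry.Group.Smooth
import Mathlib.AlgebraicGeometry.Morphisms.Etale

/-!
Points of an isotrivial torus with values in algebras split by one finite étale algebra.
-/

set_option autoImplicit false
set_option backward.isDefEq.respectTransparency false
set_option backward.isDefEq.respectTransparency.types false

universe u

open CategoryTheory Limits MonoidalCategory CartesianMonoidalCategory MonObj AlgebraicGeometry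

noncomputable section

namespace Groth.L24.AdicTorus

variable (A : Type u) [CommRing A]

/-- `Spec R` over `Spec A`. -/
abbrev pt (R : Type u) [CommRing R] [Algebra A R] : Over (Spec (CommRingCat.of A)) :=
  Over.mk (Spec.map (CommRingCat.ofHom (algebraMap A R)))

variable {A}

/-- The morphism of spectra over `A` given by an algebra map. -/
def res {R R' : Type u} [CommRing R] [Algebra A R] [CommRing R'] [Algebra A R'] (φ : R →ₐ[A] R') :
    pt A R' ⟶ pt A R :=
  Over.homMk (Spec.map (CommRingCat.ofHom φ.toRingHom)) (by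
    show _ ≫ Spec.map _ = Spec.map _
    rw [← Spec.map_comp]
    exact congrArg Spec.map (congrArg CommRingCat.ofHom φ.comp_algebraMap))

theorem res_comp {R R' R'' : Type u} [CommRing R] [Algebra A R] [CommRing R'] [Algebra A R']
    [CommRing R''] [Algebra A R''] (φ : R →ₐ[A] R') (ψ : R' →ₐ[A] R'') :
    res (ψ.comp φ) = res ψ ≫ res φ :=
  Over.OverMorphism.ext (by
    show Spec.map _ = Spec.map _ ≫ Spec.map _
    rw [← Spec.map_comp]; rfl)

theorem res_id (R : Type u) [CommRing R] [Algebra A R] : res (AlgHom.id A R) = 𝟙 (pt A R) :=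
  Over.OverMorphism.ext (Spec.map_id _)

section Coord

variable (T : Over (Spec (CommRingCat.of A))) [IsAffine T.left] [Algebra A Γ(T.left, ⊤)]
  (hT : Spec.map (CommRingCat.ofHom (algebraMap A Γ(T.left, ⊤))) = T.left.isoSpec.inv ≫ T.hom)

/-- The coordinates of a point. -/
def toAlg {R : Type u} [CommRing R] [Algebra A R] (x : pt A R ⟶ T) : Γ(T.left, ⊤) →ₐ[A] R :=
  { (Spec.preimage (x.left ≫ T.left.isoSpec.hom)).hom with
    commutes' := fun c => by
      have e : CommRingCat.ofHom (algebraMap A Γ(T.left, ⊤)) ≫ Spec.preimage (x.left ≫ T.left.isoSpec.hom) =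
          CommRingCat.ofHom (algebraMap A R) := Spec.map_injective (by
        rw [Spec.map_comp, Spec.map_preimage, hT, Category.assoc, Iso.hom_inv_id_assoc]
        exact Over.w x)
      exact congrArg (fun t : CommRingCat.of A ⟶ CommRingCat.of R => t.hom c) e }

/-- The point with given coordinates. -/
def ofAlg {R : Type u} [CommRing R] [Algebra A R] (φ : Γ(T.left, ⊤) →ₐ[A] R) : pt A R ⟶ T :=
  Over.homMk (Spec.map (CommRingCat.ofHom φ.toRingHom) ≫ T.left.isoSpec.inv) (by
    show (_ ≫ _) ≫ T.hom = Spec.map _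
    rw [Category.assoc, ← hT, ← Spec.map_comp]
    exact congrArg Spec.map (congrArg CommRingCat.ofHom φ.comp_algebraMap))

variable {R : Type u} [CommRing R] [Algebra A R]

theorem spec_toAlg (x : pt A R ⟶ T) :
    Spec.map (CommRingCat.ofHom (toAlg T hT x).toRingHom) = x.left ≫ T.left.isoSpec.hom :=
  Spec.map_preimage _

theorem toAlg_ofAlg (φ : Γ(T.left, ⊤) →ₐ[A] R) : toAlg T hT (ofAlg T hT φ) = φ := by
  have e : CommRingCat.ofHom (toAlg T hT (ofAlg T hT φ)).toRingHom = CommRingCat.ofHom φ.toRingHom := Spec.map_injective (by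
    rw [spec_toAlg]; show (_ ≫ _) ≫ _ = _; rw [Category.assoc, Iso.inv_hom_id, Category.comp_id])
  exact AlgHom.ext fun z => congrArg (fun t : Γ(T.left, ⊤) ⟶ CommRingCat.of R => t.hom z) e

theorem ofAlg_toAlg (x : pt A R ⟶ T) : ofAlg T hT (toAlg T hT x) = x :=
  Over.OverMorphism.ext (by
    show Spec.map _ ≫ _ = _
    rw [spec_toAlg, Category.assoc, Iso.hom_inv_id, Category.comp_id])

theorem toAlg_res {R' : Type u} [CommRing R'] [Algebra A R'] (φ : R →ₐ[A] R') (x : pt A R ⟶ T) :
    toAlg T hT (res φ ≫ x) = φ.comp (toAlg T hT x) := by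
  rw [← toAlg_ofAlg T hT (φ.comp (toAlg T hT x))]
  congr 1
  refine Over.OverMorphism.ext ?_
  show Spec.map _ ≫ x.left = Spec.map (CommRingCat.ofHom (φ.comp (toAlg T hT x)).toRingHom) ≫ _
  rw [show (φ.comp (toAlg T hT x)).toRingHom = φ.toRingHom.comp (toAlg T hT x).toRingHom from rfl,
    CommRingCat.ofHom_comp, Spec.map_comp, spec_toAlg]
  simp [Category.assoc]

end Coord

section DS

variable {S : Scheme.{u}} {r : ℕ} {Y Y' : Over S}

/-- The coordinate inclusions of `ℤ` into `ℤ^r`. -/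
abbrev coordInj (i : Fin r) : ℤ →+ (Fin r → ℤ) := zmultiplesHom _ (Pi.single i 1)

/-- The units attached to a point of a split torus. -/
def unitsOf (x : Y ⟶ Red.DS S (Fin r → ℤ)) : Fin r → (Γ(Y.left, ⊤))ˣ :=
  fun i => GmPts.unitOfPt (x ≫ Red.DSmap S (coordInj i))

set_option backward.isDefEq.respectTransparency true in
theorem unitsOf_mul (x y : Y ⟶ Red.DS S (Fin r → ℤ)) : unitsOf (x * y) = unitsOf x * unitsOf y := by
  funext i
  haveI h := Groth.L25.TorusTorsion.isMonHom_DSmap S (coordInj (r := r) i)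
  show GmPts.unitOfPt ((x * y) ≫ _) = GmPts.unitOfPt _ * GmPts.unitOfPt _
  rw [← GmPts.unitOfPt_mul]
  exact congrArg GmPts.unitOfPt (MonObj.mul_comp x y _)

theorem unitsOf_comp (g : Y' ⟶ Y) (x : Y ⟶ Red.DS S (Fin r → ℤ)) (i : Fin r) :
    (unitsOf (g ≫ x) i : Γ(Y'.left, ⊤)) = g.left.appTop (unitsOf x i : Γ(Y.left, ⊤)) := by
  show (GmPts.unitOfPt ((g ≫ x) ≫ _) : Γ(Y'.left, ⊤)) = _
  rw [Category.assoc, GmPts.unitOfPt_comp]
  rfl

/-- The coordinate ring of `D(ℤ^r)`. -/
abbrev CoordR (r : ℕ) : Type u := MonoidAlgebra (ULift.{u} ℤ) (Multiplicative (Fin r → ℤ))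

/-- The ring map classifying a point of a split torus. -/
def ringHomOf (x : Y ⟶ Red.DS S (Fin r → ℤ)) : CoordR.{u} r →+* Γ(Y.left, ⊤) :=
  ((Scheme.ΓSpecIso (CommRingCat.of (CoordR.{u} r))).inv ≫
    (x.left ≫ pullback.fst (Red.diag (ULift.{u} ℤ) (Fin r → ℤ)).hom _).appTop).hom

theorem ringHomOf_coordInj (x : Y ⟶ Red.DS S (Fin r → ℤ)) (i : Fin r) :
    (unitsOf x i : Γ(Y.left, ⊤)) = ringHomOf x (MonoidAlgebra.single (Multiplicative.ofAdd (Pi.single i 1)) 1) := by
  let φ := coordInj (r := r) i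
  let d : CoordR.{u} r →+* Γ(Y.left, ⊤) := ringHomOf x
  let md : GmPts.Coord.{u} →+* CoordR.{u} r :=
    (MonoidAlgebra.mapDomainAlgHom (ULift.{u} ℤ) (ULift.{u} ℤ) (AddMonoidHom.toMultiplicative φ)).toRingHom
  have h1 : GmPts.specPt (x ≫ Red.DSmap S φ) =
      (x.left ≫ pullback.fst (Red.diag (ULift.{u} ℤ) (Fin r → ℤ)).hom _) ≫ Spec.map (CommRingCat.ofHom md) := by
    show (x ≫ Red.DSmap S φ).left ≫ pullback.fst _ _ = _
    rw [Over.comp_left, Category.assoc, Category.assoc]
    exact x.left ≫= GmPts.pullback_map_left_fst (S := S) (Red.diagMap (ULift.{u} ℤ) φ)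
  show Red.gmFn (x ≫ Red.DSmap S φ) = _
  rw [← GmPts.ringHomOfPt_tPow_one]
  show (GmPts.coordIso.inv ≫ (GmPts.specPt (x ≫ Red.DSmap S φ)).appTop).hom (GmPts.tPow 1) = _
  rw [h1, Scheme.Hom.comp_appTop, ← Category.assoc, ← Scheme.ΓSpecIso_inv_naturality, Category.assoc]
  show d (md (GmPts.tPow 1)) = d _
  congr 1
  simp [md, φ, GmPts.tPow]

theorem unitsOf_injective : Function.Injective (unitsOf (Y := Y) (r := r) (S := S)) := by
  intro x y h
  have key : ringHomOf x = ringHomOf y := by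
    refine MonoidAlgebra.ringHom_ext (fun c => ?_) (fun m => ?_)
    · have : MonoidAlgebra.single (1 : Multiplicative (Fin r → ℤ)) c = ((c.down : ℤ) : CoordR.{u} r) := by
        rcases c with ⟨c⟩
        change MonoidAlgebra.single 1 (ULift.up c) = _
        rw [MonoidAlgebra.intCast_def]
        rfl
      rw [this, map_intCast, map_intCast]
    · let a : Multiplicative (Fin r → ℤ) →* Γ(Y.left, ⊤) := (ringHomOf x).toMonoidHom.comp (MonoidAlgebra.of _ _)
      let b : Multiplicative (Fin r → ℤ) →* Γ(Y.left, ⊤) := (ringHomOf y).toMonoidHom.comp (MonoidAlgebra.of _ _)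
      suffices e : a = b from congrArg (fun f : Multiplicative (Fin r → ℤ) →* Γ(Y.left, ⊤) => f m) e
      let F : (Multiplicative (Fin r → ℤ) →* Γ(Y.left, ⊤)) → ((Fin r → ℤ) →+ Additive (Γ(Y.left, ⊤))ˣ) :=
        fun c => AddMonoidHom.mk' (fun m => Additive.ofMul (c.toHomUnits (Multiplicative.ofAdd m)))
          (fun m m' => by
            show Additive.ofMul (c.toHomUnits (Multiplicative.ofAdd m * Multiplicative.ofAdd m')) = _
            rw [map_mul]; rfl)
      have e1 : F a = F b := by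
        refine AddMonoidHom.functions_ext _ _ _ fun i z => ?_
        have e2 : F a (Pi.single i 1) = F b (Pi.single i 1) :=
          congrArg Additive.ofMul (Units.ext (by
            show a (Multiplicative.ofAdd (Pi.single i 1)) = b (Multiplicative.ofAdd (Pi.single i 1))
            exact (ringHomOf_coordInj x i).symm.trans ((congrArg Units.val (congrFun h i)).trans (ringHomOf_coordInj y i))))
        have e3 : (Pi.single i z : Fin r → ℤ) = z • Pi.single i 1 := by
          rw [← Pi.single_smul]; simp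
        rw [e3, map_zsmul, map_zsmul, e2]
      refine MonoidHom.ext fun m => ?_
      exact congrArg (fun f : (Fin r → ℤ) →+ Additive (Γ(Y.left, ⊤))ˣ => ((f (Multiplicative.toAdd m)).toMul : Γ(Y.left, ⊤))) e1
  refine Over.OverMorphism.ext (pullback.hom_ext ?_ ?_)
  · refine ext_to_Spec ?_
    exact CommRingCat.hom_ext key
  · exact (Over.w x).trans (Over.w y).symm

theorem unitsOf_surjective : Function.Surjective (unitsOf (Y := Y) (r := r) (S := S)) := by
  intro u
  let ν : Multiplicative (Fin r → ℤ) →* (Γ(Y.left, ⊤))ˣ :=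
    { toFun := fun m => ∏ i, u i ^ (Multiplicative.toAdd m i)
      map_one' := by simp
      map_mul' := fun a b => by simp [zpow_add, Finset.prod_mul_distrib] }
  let ρ : CoordR.{u} r →+* Γ(Y.left, ⊤) :=
    MonoidAlgebra.liftNCRingHom ((Int.castRingHom _).comp (ULift.ringEquiv : ULift.{u} ℤ ≃+* ℤ).toRingHom)
      ((Units.coeHom _).comp ν) (fun _ _ => Commute.all _ _)
  let g : Y.left ⟶ Spec (CommRingCat.of (CoordR.{u} r)) := Y.left.toSpecΓ ≫ Spec.map (CommRingCat.ofHom ρ)
  let x : Y ⟶ Red.DS S (Fin r → ℤ) :=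
    Over.homMk (pullback.lift g Y.hom (specULiftZIsTerminal.hom_ext _ _)) (pullback.lift_snd _ _ _)
  refine ⟨x, funext fun i => Units.ext ?_⟩
  rw [ringHomOf_coordInj]
  have e : ringHomOf x = ρ := by
    show ((Scheme.ΓSpecIso _).inv ≫ (pullback.lift g Y.hom _ ≫ pullback.fst _ _).appTop).hom = ρ
    rw [pullback.lift_fst]
    show ((Scheme.ΓSpecIso _).inv ≫ (Y.left.toSpecΓ ≫ Spec.map (CommRingCat.ofHom ρ)).appTop).hom = ρ
    rw [Scheme.Hom.comp_appTop, ← Category.assoc, ← Scheme.ΓSpecIso_inv_naturality, Category.assoc,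
      Scheme.toSpecΓ_appTop, Iso.inv_hom_id, Category.comp_id]
    rfl
  rw [e]
  simp only [ρ, MonoidAlgebra.liftNCRingHom_single]
  simp [ν, Pi.single_apply]

end DS

end Groth.L24.AdicTorus
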