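import Groth.Agent.L24.AdicTorus.Pts
import Mathlib.AlgebraicGeometry.Morphisms.FlatDescent
import Mathlib.AlgebraicGeometry.Morphisms.Finite
import Groth.Agent.L23.AffineMor

/-!
A splitting algebra for an isotrivial torus over a domain.
-/

set_option autoImplicit false
set_option backward.isDefEq.respectTransparency false
set_option backward.isDefEq.respectTransparency.types false

universe u

open CategoryTheory Limits MonoidalCategory CartesianMonoidalCategory MonObj AlgebraicGeometry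

noncomputable section

namespace Groth.L24.AdicTorus

variable {A : Type u} [CommRing A]

/-- A finite étale algebra over which the points of `T` are `r`-tuples of units. -/
structure Splitting (T : Over (Spec (CommRingCat.of A))) [GrpObj T] (r : ℕ) where
  R0 : Type u
  [commRing : CommRing R0]
  [algebra : Algebra A R0]
  finite : Module.Finite A R0
  etale : Algebra.Etale A R0
  nontriv : Nontrivial R0
  Θ : ∀ (R : Type u) [CommRing R] [Algebra A R] (_ : R0 →ₐ[A] R), (pt A R ⟶ T) ≃* (Fin r → Rˣ)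
  natural : ∀ (R R' : Type u) [CommRing R] [Algebra A R] [CommRing R'] [Algebra A R'] (j : R0 →ₐ[A] R)
    (φ : R →ₐ[A] R') (x : pt A R ⟶ T) (i : Fin r),
    ((Θ R' (φ.comp j) (res φ ≫ x) i : R'ˣ) : R') = φ ((Θ R j x i : Rˣ) : R)

attribute [instance] Splitting.commRing Splitting.algebra

theorem exists_splitting (T : Over (Spec (CommRingCat.of A))) [GrpObj T] [Nontrivial A]
    (hT : ∃ r : ℕ, TwC.Locally (Spec (CommRingCat.of A)) .finiteEtale
        (fun S' g => Red.IsSplitTorusWith (Fin r → ℤ) (Red.bc g T))) :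
    IsAffine T.left ∧ ∃ r, Nonempty (Splitting T r) := by
  obtain ⟨r, S', f, hf, hf', hfs, hloc⟩ := hT
  constructor
  · let hb : (@Surjective ⊓ @Flat ⊓ @QuasiCompact : MorphismProperty Scheme.{u}) f :=
      ⟨⟨hfs, inferInstance⟩, inferInstance⟩
    have h1 : IsAffineHom (pullback.snd T.hom f) := by
      choose V hsV _ hV using hloc
      refine IsZariskiLocalAtTarget.of_iSup_eq_top (P := @IsAffineHom) V
        (top_le_iff.1 fun s _ => TopologicalSpace.Opens.mem_iSup.2 ⟨s, hsV s⟩) fun s => ?_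
      obtain ⟨e⟩ := hV s
      let e₀ : Red.bc ((V s).ι ≫ f) T ≅ Red.DS (V s : Scheme.{u}) (Fin r → ℤ) := (Grp.forget _).mapIso e
      have h2 : IsAffineHom (pullback.snd T.hom ((V s).ι ≫ f)) := by
        haveI h3 : IsAffineHom (pullback.snd (Red.diag (ULift.{u} ℤ) (Fin r → ℤ)).hom
            (specULiftZIsTerminal.from (V s : Scheme.{u}))) :=
          MorphismProperty.pullback_snd _ _ (inferInstanceAs (IsAffineHom (Spec.map (CommRingCat.ofHom
            (algebraMap (ULift.{u} ℤ) (MonoidAlgebra (ULift.{u} ℤ) (Multiplicative (Fin r → ℤ))))))))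
        rw [show pullback.snd T.hom ((V s).ι ≫ f) = e₀.hom.left ≫
          pullback.snd (Red.diag (ULift.{u} ℤ) (Fin r → ℤ)).hom (specULiftZIsTerminal.from (V s : Scheme.{u})) from
          (Over.w e₀.hom).symm]
        haveI : IsIso e₀.hom.left := inferInstanceAs (IsIso ((Over.forget _).map e₀.hom))
        infer_instance
      have sq := (IsPullback.of_hasPullback (pullback.snd T.hom f) (V s).ι).paste_horiz
        (IsPullback.of_hasPullback T.hom f)
      rw [show pullback.snd T.hom f ∣_ (V s) = (pullbackRestrictIsoRestrict (pullback.snd T.hom f) (V s)).inv ≫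
          pullback.snd (pullback.snd T.hom f) (V s).ι from rfl]
      have h4 : IsAffineHom (pullback.snd (pullback.snd T.hom f) (V s).ι) := by
        rw [← sq.isoPullback_hom_snd]; infer_instance
      infer_instance
    haveI : IsAffineHom T.hom := MorphismProperty.of_pullback_snd_of_descendsAlong (P := @IsAffineHom) hb h1
    exact isAffine_of_isAffineHom T.hom
  obtain ⟨p₀⟩ : Nonempty ↥(Spec (CommRingCat.of A)) := inferInstanceAs (Nonempty (PrimeSpectrum A))
  obtain ⟨s', -⟩ := f.surjective p₀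
  obtain ⟨U, hs', hUc, ⟨eU⟩⟩ := hloc s'
  haveI : IsClosedImmersion U.ι := IsClosedImmersion.of_isPreimmersion U.ι (by rwa [Scheme.Opens.range_ι])
  haveI : IsAffine S' := isAffine_of_isAffineHom f
  haveI : IsAffine (U : Scheme.{u}) := isAffine_of_isAffineHom U.ι
  let g : (U : Scheme.{u}) ⟶ Spec (CommRingCat.of A) := U.ι ≫ f
  let B := Γ((U : Scheme.{u}), ⊤)
  obtain ⟨φ, hφ⟩ := Spec.map_surjective ((U : Scheme.{u}).isoSpec.inv ≫ g)
  letI : Algebra A B := φ.hom.toAlgebra
  have hB : Spec.map (CommRingCat.ofHom (algebraMap A B)) = (U : Scheme.{u}).isoSpec.inv ≫ g := hφ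
  have hfin : Module.Finite A B := by
    have h1 : IsFinite (Spec.map φ) := by rw [hφ]; infer_instance
    rw [IsFinite.SpecMap_iff] at h1
    exact h1
  have het : Algebra.Etale A B := by
    have h1 : Etale (Spec.map φ) := by rw [hφ]; infer_instance
    rw [HasRingHomProperty.Spec_iff (P := @Etale)] at h1
    exact h1
  have hnt : Nontrivial B := by
    have : Nonempty ↥(U : Scheme.{u}) := ⟨⟨s', hs'⟩⟩
    have : Nonempty ↥(Spec B) := ⟨(U : Scheme.{u}).isoSpec.hom (Classical.arbitrary _)⟩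
    exact (PrimeSpectrum.nonempty_iff_nontrivial (R := B)).1 this
  let e : Red.bc g T ≅ Red.DS (U : Scheme.{u}) (Fin r → ℤ) := (Grp.forget _).mapIso eU
  haveI : IsMonHom e.hom := inferInstanceAs (IsMonHom eU.hom.hom.hom)
  let Yof : ∀ (R : Type u) [CommRing R] [Algebra A R] (_ : B →ₐ[A] R), Over (U : Scheme.{u}) :=
    fun R _ _ j => Over.mk (Spec.map (CommRingCat.ofHom j.toRingHom) ≫ (U : Scheme.{u}).isoSpec.inv)
  have hY : ∀ (R : Type u) [CommRing R] [Algebra A R] (j : B →ₐ[A] R),
      (Spec.map (CommRingCat.ofHom j.toRingHom) ≫ (U : Scheme.{u}).isoSpec.inv) ≫ g =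
        Spec.map (CommRingCat.ofHom (algebraMap A R)) := fun R _ _ j => by
    rw [Category.assoc, ← hB, ← Spec.map_comp]
    exact congrArg Spec.map (congrArg CommRingCat.ofHom j.comp_algebraMap)
  let eY : ∀ (R : Type u) [CommRing R] [Algebra A R] (j : B →ₐ[A] R), (Over.map g).obj (Yof R j) ≅ pt A R :=
    fun R _ _ j => Over.isoMk (Iso.refl _) (by
      show 𝟙 _ ≫ Spec.map _ = _
      rw [Category.id_comp]
      exact (hY R j).symm)
  let Ψ : ∀ (R : Type u) [CommRing R] [Algebra A R] (j : B →ₐ[A] R), (pt A R ⟶ T) → (Fin r → Rˣ) :=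
    fun R _ _ j x i => Units.map (Scheme.ΓSpecIso (CommRingCat.of R)).hom.hom.toMonoidHom
      (unitsOf ((Over.mapPullbackAdj g).homEquiv (Yof R j) T ((eY R j).hom ≫ x) ≫ e.hom) i)
  have hΨmul : ∀ (R : Type u) [CommRing R] [Algebra A R] (j : B →ₐ[A] R) (x y : pt A R ⟶ T),
      Ψ R j (x * y) = Ψ R j x * Ψ R j y := fun R _ _ j x y => funext fun i => by
    simp only [Ψ, MonObj.comp_mul, Adjunction.homEquiv_unit, Functor.map_mul, MonObj.mul_comp, unitsOf_mul,
      Pi.mul_apply, map_mul]
  have hΨbij : ∀ (R : Type u) [CommRing R] [Algebra A R] (j : B →ₐ[A] R), Function.Bijective (Ψ R j) := by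
    intro R _ _ j
    let uΓ := (Scheme.ΓSpecIso (CommRingCat.of R)).commRingCatIsoToRingEquiv
    refine ⟨fun x y h => ?_, fun v => ?_⟩
    · have h1 : unitsOf ((Over.mapPullbackAdj g).homEquiv (Yof R j) T ((eY R j).hom ≫ x) ≫ e.hom) =
          unitsOf ((Over.mapPullbackAdj g).homEquiv (Yof R j) T ((eY R j).hom ≫ y) ≫ e.hom) :=
        funext fun i => Units.map_injective uΓ.injective (congrFun h i)
      exact (cancel_epi (eY R j).hom).1 (((Over.mapPullbackAdj g).homEquiv _ _).injective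
        ((cancel_mono e.hom).1 (unitsOf_injective h1)))
    · obtain ⟨z, hz⟩ := unitsOf_surjective (Y := Yof R j) (r := r)
        (fun i => Units.map uΓ.symm.toMonoidHom (v i))
      refine ⟨(eY R j).inv ≫ ((Over.mapPullbackAdj g).homEquiv (Yof R j) T).symm (z ≫ e.inv), funext fun i => ?_⟩
      show Units.map _ (unitsOf (((Over.mapPullbackAdj g).homEquiv (Yof R j) T)
        ((eY R j).hom ≫ (eY R j).inv ≫ _) ≫ e.hom) i) = v i
      rw [Iso.hom_inv_id_assoc, _root_.Equiv.apply_symm_apply, Category.assoc, Iso.inv_hom_id, Category.comp_id, hz]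
      exact Units.ext (uΓ.apply_symm_apply _)
  refine ⟨r, ⟨Splitting.mk B hfin het hnt
    (fun R _ _ j => MulEquiv.ofBijective (MonoidHom.mk' (Ψ R j) (hΨmul R j)) (hΨbij R j)) ?_⟩⟩
  intro R R' _ _ _ _ j φR x i
  let gY : Yof R' (φR.comp j) ⟶ Yof R j := Over.homMk (Spec.map (CommRingCat.ofHom φR.toRingHom)) (by
    show _ ≫ _ ≫ _ = Spec.map (CommRingCat.ofHom (φR.comp j).toRingHom) ≫ _
    rw [← Category.assoc, ← Spec.map_comp]; rfl)
  have e1 : (eY R' (φR.comp j)).hom ≫ res φR ≫ x = (Over.map g).map gY ≫ (eY R j).hom ≫ x := by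
    simp only [← Category.assoc]
    congr 1
  show (Scheme.ΓSpecIso (CommRingCat.of R')).hom
      (unitsOf ((Over.mapPullbackAdj g).homEquiv _ T ((eY R' (φR.comp j)).hom ≫ res φR ≫ x) ≫ e.hom) i : Γ((Yof R' (φR.comp j)).left, ⊤)) =
    φR ((Scheme.ΓSpecIso (CommRingCat.of R)).hom
      (unitsOf ((Over.mapPullbackAdj g).homEquiv _ T ((eY R j).hom ≫ x) ≫ e.hom) i : Γ((Yof R j).left, ⊤)))
  rw [e1, Adjunction.homEquiv_naturality_left, Category.assoc, unitsOf_comp]
  exact congrArg (fun F : Γ(Spec (CommRingCat.of R), ⊤) ⟶ CommRingCat.of R' => F.hom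
      (unitsOf ((Over.mapPullbackAdj g).homEquiv _ T ((eY R j).hom ≫ x) ≫ e.hom) i : Γ((Yof R j).left, ⊤)))
    (Scheme.ΓSpecIso_naturality (CommRingCat.ofHom φR.toRingHom))

end Groth.L24.AdicTorus
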