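import Groth.Agent.L05.Hensel.IntegralDomain
import Mathlib.RingTheory.Unramified.LocalRing
import Mathlib.RingTheory.Ideal.GoingUp
import Mathlib.RingTheory.Etale.Basic
import Mathlib.RingTheory.IntegralClosure.IntegrallyClosed

/-!
Integral elements over a henselian discrete valuation ring, unramified algebras inside an algebraic extension.
-/

set_option autoImplicit false

universe u

noncomputable section

namespace Groth.L24.AdicTorus

variable {Oh : Type u} [CommRing Oh] [IsDomain Oh] [IsDiscreteValuationRing Oh] [HenselianLocalRing Oh]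
  {Kh : Type u} [Field Kh] [Algebra Oh Kh] [IsFractionRing Oh Kh]
  {Ω : Type u} [Field Ω] [Algebra Kh Ω] [Algebra Oh Ω] [IsScalarTower Oh Kh Ω]

local notation "O" => integralClosure Oh Ω

theorem isLocalRing_integralClosure : IsLocalRing O :=
  haveI : Algebra.IsIntegral Oh O := IsIntegralClosure.isIntegral_algebra Oh Ω
  Groth.L05.isLocalRing_of_integral_domain (A := Oh) O

include Kh in
theorem injective_algebraMap_Ω : Function.Injective (algebraMap Oh Ω) := by
  rw [IsScalarTower.algebraMap_eq Oh Kh Ω]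
  exact (algebraMap Kh Ω).injective.comp (IsFractionRing.injective Oh Kh)

include Kh in
theorem not_isUnit_of_irreducible {π : Oh} (hπ : Irreducible π) : ¬ IsUnit (algebraMap Oh O π) := by
  haveI : Algebra.IsIntegral Oh O := IsIntegralClosure.isIntegral_algebra Oh Ω
  haveI : FaithfulSMul Oh O := (faithfulSMul_iff_algebraMap_injective Oh O).2
    fun x y h => injective_algebraMap_Ω (Kh := Kh) (Ω := Ω) (congrArg Subtype.val h)
  exact fun h => hπ.not_isUnit (IsUnit.of_map (algebraMap Oh O) π h)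

include Kh in
theorem zpow_mul_unit_inj {π : Oh} (hπ : Irreducible π) {z w : ℤ} (a b : Oˣ)
    (h : algebraMap Oh Ω π ^ z * (a : O) = algebraMap Oh Ω π ^ w * (b : O)) : z = w := by
  have hp : algebraMap Oh Ω π ≠ 0 := fun e =>
    hπ.ne_zero (injective_algebraMap_Ω (Kh := Kh) (Ω := Ω) (e.trans (map_zero _).symm))
  suffices key : ∀ (k : ℕ) (c d : Oˣ), algebraMap Oh Ω π ^ k * (c : O) = ((d : O) : Ω) → k = 0 by
    rcases le_total z w with hle | hle
    · obtain ⟨k, rfl⟩ := Int.le.dest hle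
      rw [zpow_add₀ hp, zpow_natCast, mul_assoc] at h
      have := key k b a (mul_left_cancel₀ (zpow_ne_zero z hp) h.symm)
      simp [this]
    · obtain ⟨k, rfl⟩ := Int.le.dest hle
      rw [zpow_add₀ hp, zpow_natCast, mul_assoc] at h
      have := key k a b (mul_left_cancel₀ (zpow_ne_zero w hp) h)
      simp [this]
  intro k c d hk
  by_contra h0
  apply not_isUnit_of_irreducible (Kh := Kh) (Ω := Ω) hπ
  have h1 : algebraMap Oh O π ^ k * (c : O) = (d : O) := Subtype.ext (by simpa using hk)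
  have h2 : IsUnit (algebraMap Oh O π ^ k) := isUnit_of_mul_isUnit_left (h1 ▸ d.isUnit)
  exact (isUnit_pow_iff h0).1 h2

include Kh in
theorem eq_zero_of_forall_pow_dvd {π : Oh} (hπ : Irreducible π) (x : O)
    (h : ∀ n : ℕ, algebraMap Oh O π ^ n ∣ x) : x = 0 := by
  by_contra h0
  have hI : Ideal.comap (algebraMap Oh O) (Ideal.span {x}) ≠ ⊥ :=
    Ideal.comap_ne_bot_of_integral_mem h0 (Ideal.mem_span_singleton_self x)
      ((IsIntegralClosure.isIntegral_algebra Oh Ω).isIntegral x)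
  obtain ⟨m, hm⟩ := IsDiscreteValuationRing.ideal_eq_span_pow_irreducible hI hπ
  have h1 : algebraMap Oh O (π ^ m) ∈ Ideal.span {x} := by
    rw [← Ideal.mem_comap, hm]
    exact Ideal.mem_span_singleton_self _
  rw [Ideal.mem_span_singleton, map_pow] at h1
  obtain ⟨c, hc⟩ := (h (m + 1)).trans h1
  have hp : algebraMap Oh O π ^ m ≠ 0 := pow_ne_zero _ fun e => hπ.ne_zero
    (injective_algebraMap_Ω (Kh := Kh) (Ω := Ω) (by
      rw [map_zero]; exact congrArg Subtype.val e))
  rw [pow_succ, mul_assoc] at hc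
  have h2 : algebraMap Oh O π * c = 1 := mul_left_cancel₀ hp (by rw [mul_one]; exact hc.symm)
  exact not_isUnit_of_irreducible (Kh := Kh) (Ω := Ω) hπ (isUnit_iff_exists_inv.2 ⟨c, h2⟩)

theorem mem_range_of_isIntegral {y : Kh} (h : IsIntegral Oh (algebraMap Kh Ω y)) :
    y ∈ (algebraMap Oh Kh).range := by
  rw [isIntegral_algebraMap_iff (algebraMap Kh Ω).injective] at h
  exact IsIntegrallyClosed.algebraMap_eq_of_integral h

section Unramified

variable {A : Type u} [CommRing A] [Algebra A Oh] [Algebra A Ω] [IsScalarTower A Oh Ω]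
  {R0 : Type u} [CommRing R0] [Algebra A R0] [Module.Finite A R0] [Algebra.Etale A R0]

theorem exists_zpow_mul_unit {π : Oh} (hπ : Irreducible π) (ψ : R0 →ₐ[A] Ω) (y : Ω)
    (hy : y ∈ Algebra.adjoin Kh (Set.range ψ)) (hy0 : y ≠ 0) :
    ∃ (z : ℤ) (u : Oˣ), y = algebraMap Oh Ω π ^ z * (u : O) := by
  let f : TensorProduct A Oh R0 →ₐ[Oh] Ω :=
    Algebra.TensorProduct.lift (Algebra.ofId Oh Ω) ψ (fun _ _ => Commute.all _ _)
  let B : Subalgebra Oh Ω := f.range
  haveI : Module.Finite Oh B := Module.Finite.of_surjective f.rangeRestrict.toLinearMap f.rangeRestrict_surjective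
  haveI : Algebra.FormallyUnramified Oh B :=
    Algebra.FormallyUnramified.of_surjective f.rangeRestrict f.rangeRestrict_surjective
  haveI : IsLocalRing B := Groth.L05.isLocalRing_of_finite_domain (A := Oh) B
  haveI : FaithfulSMul Oh B := (faithfulSMul_iff_algebraMap_injective Oh B).2
    fun a b h => injective_algebraMap_Ω (Kh := Kh) (Ω := Ω) (congrArg Subtype.val h)
  haveI : IsLocalHom (algebraMap Oh B) := inferInstance
  haveI : IsNoetherianRing B := IsNoetherianRing.of_finite Oh B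
  set p : B := algebraMap Oh B π with hp
  have hmB : IsLocalRing.maximalIdeal B = Ideal.span {p} := by
    rw [← Algebra.FormallyUnramified.map_maximalIdeal (R := Oh) (S := B), hπ.maximalIdeal_eq,
      Ideal.map_span, Set.image_singleton]
  have hpΩ : algebraMap Oh Ω π ≠ 0 := fun e =>
    hπ.ne_zero (injective_algebraMap_Ω (Kh := Kh) (Ω := Ω) (e.trans (map_zero _).symm))
  have hp0 : p ≠ 0 := fun e => hpΩ (congrArg Subtype.val e)
  have hpu : ¬ IsUnit p := by
    rw [← mem_nonunits_iff, ← IsLocalRing.mem_maximalIdeal, hmB]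
    exact Ideal.mem_span_singleton_self p
  have hfac : ∀ b : B, b ≠ 0 → ∃ (n : ℕ) (c : Bˣ), b = p ^ n * c := fun b hb => by
    obtain ⟨n, c, hc, rfl⟩ := WfDvdMonoid.max_power_factor' (a₀ := b) hb hpu
    have hcu : IsUnit c := by
      by_contra h
      exact hc (Ideal.mem_span_singleton.1 (hmB ▸ (IsLocalRing.mem_maximalIdeal c).2 h))
    exact ⟨n, hcu.unit, rfl⟩
  have hint : ∀ b : B, IsIntegral Oh (b : Ω) := fun b => (IsIntegral.of_finite Oh b).map B.val
  let incl : B →* O :=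
    { toFun := fun b => ⟨(b : Ω), hint b⟩
      map_one' := rfl
      map_mul' := fun _ _ => rfl }
  have hden : ∀ y ∈ Algebra.adjoin Kh (Set.range ψ), ∃ n : ℕ, algebraMap Oh Ω π ^ n * y ∈ B := by
    clear hy hy0 y
    intro y hy
    induction hy using Algebra.adjoin_induction with
    | mem x hx =>
      obtain ⟨r, rfl⟩ := hx
      exact ⟨0, by rw [pow_zero, one_mul]; exact ⟨1 ⊗ₜ r, by simp [f]⟩⟩
    | algebraMap k =>
      obtain ⟨⟨a, s⟩, h⟩ := IsLocalization.surj (nonZeroDivisors Oh) k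
      obtain ⟨n, w, hw⟩ := IsDiscreteValuationRing.eq_unit_mul_pow_irreducible (nonZeroDivisors.ne_zero s.2) hπ
      refine ⟨n, ?_⟩
      have h1 : algebraMap Oh Ω π ^ n * algebraMap Kh Ω k = algebraMap Oh Ω ((↑w⁻¹ : Oh) * a) := by
        simp only [IsScalarTower.algebraMap_apply Oh Kh Ω, ← map_pow, ← map_mul]
        congr 1
        rw [map_mul, ← h, hw, map_mul, map_pow]
        have : algebraMap Oh Kh (↑w⁻¹ : Oh) * algebraMap Oh Kh (w : Oh) = 1 := by
          rw [← map_mul, w.inv_mul, map_one]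
        linear_combination (-(algebraMap Oh Kh π ^ n * k)) * this
      rw [h1]
      exact Subalgebra.algebraMap_mem B _
    | add x₁ x₂ _ _ h₁ h₂ =>
      obtain ⟨n₁, h₁⟩ := h₁; obtain ⟨n₂, h₂⟩ := h₂
      have hπB : ∀ n : ℕ, algebraMap Oh Ω π ^ n ∈ B := fun n => pow_mem (Subalgebra.algebraMap_mem B π) n
      refine ⟨n₁ + n₂, ?_⟩
      rw [show algebraMap Oh Ω π ^ (n₁ + n₂) * (x₁ + x₂) = algebraMap Oh Ω π ^ n₂ * (algebraMap Oh Ω π ^ n₁ * x₁) +
        algebraMap Oh Ω π ^ n₁ * (algebraMap Oh Ω π ^ n₂ * x₂) by ring]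
      exact add_mem (mul_mem (hπB _) h₁) (mul_mem (hπB _) h₂)
    | mul x₁ x₂ _ _ h₁ h₂ =>
      obtain ⟨n₁, h₁⟩ := h₁; obtain ⟨n₂, h₂⟩ := h₂
      refine ⟨n₁ + n₂, ?_⟩
      rw [show algebraMap Oh Ω π ^ (n₁ + n₂) * (x₁ * x₂) = (algebraMap Oh Ω π ^ n₁ * x₁) * (algebraMap Oh Ω π ^ n₂ * x₂) by ring]
      exact mul_mem h₁ h₂
  obtain ⟨n, hn⟩ := hden y hy
  obtain ⟨m, c, hc⟩ := hfac ⟨_, hn⟩ (fun e => mul_ne_zero (pow_ne_zero _ hpΩ) hy0 (congrArg Subtype.val e))
  refine ⟨(m : ℤ) - n, Units.map incl c, ?_⟩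
  have h1 : algebraMap Oh Ω π ^ n * y = algebraMap Oh Ω π ^ m * ((c : B) : Ω) :=
    (congrArg Subtype.val hc).trans (by simp [hp])
  rw [zpow_sub₀ hpΩ, zpow_natCast, zpow_natCast, div_mul_eq_mul_div, eq_div_iff (pow_ne_zero _ hpΩ)]
  show y * _ = _ * ((c : B) : Ω)
  rw [← h1]; ring

end Unramified

end Groth.L24.AdicTorus
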